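import Mathlib
import Cfsg.Agent.Lib.Presentations.PresOn

/-!
Presentations recognised by counting, and substitution of generators.
-/

set_option autoImplicit false

namespace CfsgLib.Presentations

universe u

/-- A relation given by its two sides. -/
def eqs {κ : Type} (E : List (FreeGroup κ × FreeGroup κ)) : List (FreeGroup κ) :=
  E.map fun e => e.1 * e.2⁻¹

theorem eqs_iff {κ : Type} {Γ : Type*} [Group Γ] (f : κ → Γ) (E : List (FreeGroup κ × FreeGroup κ)) :
    (∀ r ∈ eqs E, FreeGroup.lift f r = 1) ↔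
      ∀ e ∈ E, FreeGroup.lift f e.1 = FreeGroup.lift f e.2 := by
  simp only [eqs, List.forall_mem_map, map_mul, map_inv, mul_inv_eq_one]

/-- `g` generates and at most `k` relations define it. -/
def PresentedBy {G : Type u} [Group G] {κ : Type} (g : κ → G) (k : ℕ) : Prop :=
  ∃ L : List (FreeGroup κ), L.length ≤ k ∧
    (∀ r ∈ L, FreeGroup.lift g r = 1) ∧ Subgroup.closure (Set.range g) = ⊤ ∧
    ∀ (Γ : Type) [Group Γ] (f : κ → Γ), (∀ r ∈ L, FreeGroup.lift f r = 1) →
      ∃ ψ : G →* Γ, ∀ i, ψ (g i) = f i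

theorem PresentedBy.boundedOn {G : Type u} [Group G] {κ : Type} {g : κ → G} {k : ℕ}
    (h : PresentedBy g k) : BoundedOn G κ k := ⟨g, h⟩

/-- True relations on generators which leave no room for a larger group present the group. -/
theorem presentedBy_of_card {G : Type} [Group G] [Finite G] {κ : Type} (g : κ → G)
    (E : List (FreeGroup κ × FreeGroup κ)) {k : ℕ} (hk : E.length ≤ k)
    (htrue : ∀ e ∈ E, FreeGroup.lift g e.1 = FreeGroup.lift g e.2)
    (hgen : Subgroup.closure (Set.range g) = ⊤)
    (hle : ∀ (Γ : Type) [Group Γ] (f : κ → Γ),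
      (∀ e ∈ E, FreeGroup.lift f e.1 = FreeGroup.lift f e.2) → Subgroup.closure (Set.range f) = ⊤ →
        ∃ (α : Type) (_ : Finite α) (s : α → Γ),
          Function.Surjective s ∧ Nat.card α ≤ Nat.card G) :
    PresentedBy g k := by
  classical
  set R : Set (FreeGroup κ) := ↑(eqs E).toFinset with hR
  have hsat : ∀ r ∈ R, FreeGroup.lift g r = 1 := fun r hr =>
    (eqs_iff g E).2 htrue r (by simpa [hR] using hr)
  let π : PresentedGroup R →* G := PresentedGroup.toGroup hsat
  have hπ : ∀ i, π (PresentedGroup.of i) = g i := fun i => by simp [π]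
  have hsurj : Function.Surjective π := by
    rw [← MonoidHom.range_eq_top, eq_top_iff, ← hgen, Subgroup.closure_le]
    rintro _ ⟨i, rfl⟩
    exact ⟨_, hπ i⟩
  have hmk : FreeGroup.lift (PresentedGroup.of (rels := R)) = PresentedGroup.mk R :=
    FreeGroup.ext_hom _ _ fun i => by simp only [FreeGroup.lift_apply_of]; rfl
  obtain ⟨α, hα, s, hs, hcard⟩ := hle (PresentedGroup R) PresentedGroup.of
    ((eqs_iff _ E).1 fun r hr => by
      rw [hmk]; exact PresentedGroup.one_of_mem (by simpa [hR] using hr))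
    (PresentedGroup.closure_range_of R)
  have : Finite (PresentedGroup R) := Finite.of_surjective s hs
  let φ := MulEquiv.ofBijective π
    (hsurj.bijective_of_nat_card_le ((Nat.card_le_card_of_surjective s hs).trans hcard))
  refine ⟨eqs E, by simpa [eqs] using hk, (eqs_iff g E).2 htrue, hgen, fun Γ _ f hf => ?_⟩
  refine ⟨(PresentedGroup.toGroup (f := f) fun r hr => hf r (by simpa [hR] using hr)).comp
    φ.symm.toMonoidHom, fun i => ?_⟩
  have : φ.symm (g i) = PresentedGroup.of i := by rw [MulEquiv.symm_apply_eq]; exact (hπ i).symm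
  simp [this]

/-- A group generated by a normalised finite subgroup and one element whose square lies in it. -/
theorem surjective_two_cosets {Γ : Type*} [Group Γ] (N : Subgroup Γ) (t : Γ) (ht : t * t ∈ N)
    (hnorm : ∀ x ∈ N, t * x * t⁻¹ ∈ N) {S : Set Γ} (hS : Subgroup.closure S = ⊤)
    (hmem : ∀ x ∈ S, x ∈ N ∨ t * x ∈ N) :
    Function.Surjective fun q : Bool × N => (if q.1 then t⁻¹ else 1) * (q.2 : Γ) := by
  have hnorm' : ∀ x ∈ N, t⁻¹ * x * t ∈ N := fun x hx => by
    have := mul_mem (mul_mem (inv_mem ht) (hnorm x hx)) ht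
    rwa [show (t * t)⁻¹ * (t * x * t⁻¹) * (t * t) = t⁻¹ * x * t by group] at this
  let K : Subgroup Γ :=
    { carrier := {x | x ∈ N ∨ t * x ∈ N}
      one_mem' := Or.inl (one_mem N)
      mul_mem' := by
        rintro a b (ha | ha) (hb | hb)
        · exact Or.inl (mul_mem ha hb)
        · refine Or.inr ?_
          have := mul_mem (hnorm a ha) hb
          rwa [show t * a * t⁻¹ * (t * b) = t * (a * b) by group] at this
        · refine Or.inr ?_
          have := mul_mem ha hb
          rwa [mul_assoc] at this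
        · refine Or.inl ?_
          have := mul_mem (mul_mem (hnorm' _ ha) (inv_mem ht)) hb
          rwa [show t⁻¹ * (t * a) * t * (t * t)⁻¹ * (t * b) = a * b by group] at this
      inv_mem' := by
        rintro a (ha | ha)
        · exact Or.inl (inv_mem ha)
        · refine Or.inr ?_
          have := mul_mem (hnorm _ (inv_mem ha)) ht
          rwa [show t * (t * a)⁻¹ * t⁻¹ * (t * t) = t * a⁻¹ by group] at this }
  intro x
  have hx : x ∈ K := by
    have hle : Subgroup.closure S ≤ K := (Subgroup.closure_le _).2 hmem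
    exact hle (hS ▸ Subgroup.mem_top x)
  rcases hx with hx | hx
  · exact ⟨(false, ⟨x, hx⟩), by simp⟩
  · exact ⟨(true, ⟨_, hx⟩), by simp⟩

variable {T : Type u} [Group T]

/-- Substituting words for generators, the new generators being kept by the substitution. -/
theorem PresentedBy.subst {κ κ' : Type} {m : ℕ} {g : κ → T} (h : PresentedBy g m)
    (v : κ' → FreeGroup κ) (u : κ → FreeGroup κ') (huv : ∀ i, FreeGroup.lift u (v i) = FreeGroup.of i)
    (hu : ∀ j, FreeGroup.lift (fun i => FreeGroup.lift g (v i)) (u j) = g j) :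
    BoundedOn T κ' m := by
  obtain ⟨L, hL, h1, h2, h3⟩ := h
  set g' : κ' → T := fun i => FreeGroup.lift g (v i) with hg'
  have key : ∀ x, FreeGroup.lift g' (FreeGroup.lift u x) = FreeGroup.lift g x := fun x =>
    DFunLike.congr_fun (FreeGroup.ext_hom ((FreeGroup.lift g').comp (FreeGroup.lift u))
      (FreeGroup.lift g) fun j => by simpa using hu j) x
  refine ⟨g', L.map (FreeGroup.lift u), by simpa using hL, fun r hr => ?_, ?_, fun Γ _ f hf => ?_⟩
  · obtain ⟨s, hs, rfl⟩ := List.mem_map.1 hr
    rw [key, h1 s hs]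
  · rw [eq_top_iff, ← h2, Subgroup.closure_le]
    rintro _ ⟨j, rfl⟩
    rw [SetLike.mem_coe, ← hu j, ← FreeGroup.range_lift_eq_closure]
    exact ⟨_, rfl⟩
  · have key' : ∀ x, FreeGroup.lift f (FreeGroup.lift u x) =
        FreeGroup.lift (fun j => FreeGroup.lift f (u j)) x := fun x =>
      DFunLike.congr_fun (FreeGroup.ext_hom ((FreeGroup.lift f).comp (FreeGroup.lift u))
        (FreeGroup.lift fun j => FreeGroup.lift f (u j)) fun j => by simp) x
    obtain ⟨ψ, hψ⟩ := h3 Γ (fun j => FreeGroup.lift f (u j)) fun r hr => by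
      rw [← key']; exact hf _ (List.mem_map.2 ⟨r, hr, rfl⟩)
    refine ⟨ψ, fun i => ?_⟩
    rw [hg', lift_natural, show ψ ∘ g = fun j => FreeGroup.lift f (u j) from funext hψ, ← key',
      huv, FreeGroup.lift_apply_of]

/-- Prescribed generators, the isomorphism carrying the letters to them. -/
theorem BoundedOn.prescribed {κ : Type} {m k : ℕ} (h : BoundedOn T κ m) (gn : Fin k → T)
    (hab : Subgroup.closure (Set.range gn) = ⊤) :
    ∃ rels : Finset (FreeGroup (Fin k)), rels.card ≤ m + k ∧
      ∃ e : PresentedGroup (↑rels : Set (FreeGroup (Fin k))) ≃* T,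
        ∀ i, e (PresentedGroup.of i) = gn i := by
  classical
  obtain ⟨g, L, hL, h1, h2, h3⟩ := h
  obtain ⟨W, hW⟩ := exists_words g h2
  obtain ⟨V, hV⟩ := exists_words gn hab
  let tr : FreeGroup κ →* FreeGroup (Fin k) := FreeGroup.lift fun i => V (g i)
  have htr : ∀ w, FreeGroup.lift gn (tr w) = FreeGroup.lift g w := fun w =>
    DFunLike.congr_fun (FreeGroup.ext_hom ((FreeGroup.lift gn).comp tr) (FreeGroup.lift g)
      fun i => by simp [tr, hV]) w
  set L2 : List (FreeGroup (Fin k)) := L.map tr ++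
    List.ofFn fun i : Fin k => (FreeGroup.of i)⁻¹ * tr (W (gn i)) with hL2
  refine ⟨L2.toFinset, (List.toFinset_card_le L2).trans
    (by simp only [hL2, List.length_append, List.length_map, List.length_ofFn]; omega), ?_⟩
  set R : Set (FreeGroup (Fin k)) := ↑L2.toFinset with hR
  have htrue : ∀ r ∈ R, FreeGroup.lift gn r = 1 := by
    intro r hr
    rw [hR, Finset.mem_coe, List.mem_toFinset, hL2, List.mem_append] at hr
    rcases hr with hr | hr
    · obtain ⟨s, hs, rfl⟩ := List.mem_map.1 hr
      rw [htr, h1 s hs]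
    · obtain ⟨i, rfl⟩ := List.mem_ofFn.1 hr
      simp [htr, hW]
  let φ : PresentedGroup R →* T := PresentedGroup.toGroup htrue
  let P : Fin k → PresentedGroup R := PresentedGroup.of
  have hmk : FreeGroup.lift P = PresentedGroup.mk R :=
    FreeGroup.ext_hom _ _ fun i => by simp only [FreeGroup.lift_apply_of]; rfl
  have hmem : ∀ r ∈ L2, FreeGroup.lift P r = 1 := fun r hr => by
    rw [hmk]; exact PresentedGroup.one_of_mem (List.mem_toFinset.2 hr)
  obtain ⟨ψ, hψ⟩ := h3 (PresentedGroup R) (fun i => FreeGroup.lift P (V (g i))) fun r hr => by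
    have := hmem (tr r) (by rw [hL2]; exact List.mem_append.2 (Or.inl (List.mem_map.2 ⟨r, hr, rfl⟩)))
    refine Eq.trans ?_ this
    exact DFunLike.congr_fun (FreeGroup.ext_hom (FreeGroup.lift fun i => FreeGroup.lift P (V (g i)))
      ((FreeGroup.lift P).comp tr) fun i => by simp [tr]) r
  have hψW : ∀ t, ψ t = FreeGroup.lift P (tr (W t)) := fun t => by
    conv_lhs => rw [← hW t, lift_natural]
    exact DFunLike.congr_fun (FreeGroup.ext_hom (FreeGroup.lift (ψ ∘ g))
      ((FreeGroup.lift P).comp tr) fun i => by simp [tr, hψ]) (W t)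
  have hφP : ∀ w, φ (FreeGroup.lift P w) = FreeGroup.lift gn w := fun w =>
    DFunLike.congr_fun (FreeGroup.ext_hom (φ.comp (FreeGroup.lift P)) (FreeGroup.lift gn)
      fun i => by simp [φ, P]) w
  have e1 : ψ.comp φ = MonoidHom.id _ := by
    refine PresentedGroup.ext fun i => ?_
    simp only [MonoidHom.comp_apply, MonoidHom.id_apply, φ, PresentedGroup.toGroup.of, hψW]
    have := hmem ((FreeGroup.of i)⁻¹ * tr (W (gn i)))
      (by rw [hL2]; exact List.mem_append.2 (Or.inr (List.mem_ofFn.2 ⟨i, rfl⟩)))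
    rw [map_mul, map_inv, inv_mul_eq_one, FreeGroup.lift_apply_of] at this
    exact this.symm
  have e2 : φ.comp ψ = MonoidHom.id _ := by
    refine MonoidHom.eq_of_eqOn_dense h2 ?_
    rintro _ ⟨i, rfl⟩
    simp [hψ, hφP, hV]
  exact ⟨MonoidHom.toMulEquiv φ ψ e1 e2, fun i => by simp [φ]⟩

end CfsgLib.Presentations
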