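import Mathlib
import Cfsg.Agent.Lib.Presentations.AltCarmichael

/-!
Two marked points and a cycle of `m` more: permutations used in short presentations.
-/

set_option autoImplicit false
set_option linter.unusedSectionVars false

namespace CfsgLib.Presentations.AltSeven

open Equiv Equiv.Perm
open Carmichael

/-- Two marked points and the integers modulo `m`. -/
abbrev Pts (m : ℕ) : Type := Fin 2 ⊕ ZMod m

variable {m : ℕ}

theorem c_ne : (Sum.inl 0 : Pts m) ≠ Sum.inl 1 := by simp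

section Fin

variable [NeZero m]

/-- The alternating group of the points. -/
abbrev Alt (m : ℕ) [NeZero m] : Subgroup (Perm (Pts m)) := alternatingGroup (Pts m)

/-- The three-cycle through the marked points and `i`. -/
def z (i : ZMod m) : Alt m := gen c_ne ⟨Sum.inr i, by simp, by simp⟩

theorem z_val (i : ZMod m) :
    ((z i : Alt m) : Perm (Pts m)) = cyc (Sum.inl 0) (Sum.inl 1) (Sum.inr i) := rfl

theorem idx_eq (j : Idx (Sum.inl 0 : Pts m) (Sum.inl 1)) :
    ∃ i, j = ⟨Sum.inr i, by simp, by simp⟩ := by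
  obtain ⟨x | i, h1, h2⟩ := j
  · fin_cases x
    · exact absurd rfl h1
    · exact absurd rfl h2
  · exact ⟨i, rfl⟩

theorem z_cube (i : ZMod m) : z i ^ 3 = 1 := (gen_rels c_ne).cube _

theorem z_pair {i j : ZMod m} (h : i ≠ j) : (z i * z j) ^ 2 = 1 :=
  (gen_rels c_ne).pair _ _ fun e => h (Sum.inr.inj (congrArg Subtype.val e))

theorem closure_z : Subgroup.closure (Set.range (z : ZMod m → Alt m)) = ⊤ := by
  rw [eq_top_iff, ← gen_closure (c_ne (m := m))]
  refine Subgroup.closure_mono ?_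
  rintro _ ⟨j, rfl⟩
  obtain ⟨i, rfl⟩ := idx_eq j
  exact ⟨i, rfl⟩

theorem hom_ext_z {Γ : Type*} [Group Γ] {f g : Alt m →* Γ}
    (h : ∀ i, f (z i) = g (z i)) : f = g :=
  MonoidHom.eq_of_eqOn_dense closure_z (by rintro _ ⟨i, rfl⟩; exact h i)

theorem exists_hom_z {Γ : Type*} [Group Γ] (y : ZMod m → Γ) (hy : CRels y) :
    ∃ Ψ : Alt m →* Γ, ∀ i, Ψ (z i) = y i := by
  classical
  let y' : Idx (Sum.inl 0 : Pts m) (Sum.inl 1) → Γ := fun j => y (Classical.choose (idx_eq j))
  have hy' : ∀ i, y' ⟨Sum.inr i, by simp, by simp⟩ = y i := fun i => by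
    exact congrArg y (Sum.inr.inj (congrArg Subtype.val
      (Classical.choose_spec (idx_eq (m := m) ⟨Sum.inr i, by simp, by simp⟩)))).symm
  have hinj : Function.Injective fun j : Idx (Sum.inl 0 : Pts m) (Sum.inl 1) =>
      Classical.choose (idx_eq j) := fun a b h => by
    rw [Classical.choose_spec (idx_eq a), Classical.choose_spec (idx_eq b)]
    simp only [h]
  obtain ⟨Ψ, hΨ⟩ := Carmichael.exists_hom (c_ne (m := m)) y'
    ⟨fun j => hy.cube _, fun a b h => hy.pair _ _ (hinj.ne h)⟩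
  exact ⟨Ψ, fun i => (hΨ _).trans (hy' i)⟩

/-- Conjugation by any permutation. -/
noncomputable def cj (σ : Perm (Pts m)) : MulAut (Alt m) := MulAut.conjNormal σ

theorem cj_val (σ : Perm (Pts m)) (x : Alt m) :
    ((cj σ x : Alt m) : Perm (Pts m)) = σ * x * σ⁻¹ := MulAut.conjNormal_apply σ x

theorem cj_coe (s x : Alt m) : cj (s : Perm (Pts m)) x = s * x * s⁻¹ :=
  Subtype.ext (by rw [cj_val]; rfl)

theorem cyc_flip {Ω : Type*} [DecidableEq Ω] {c₁ c₂ i : Ω} (h1 : i ≠ c₁) (h2 : i ≠ c₂) :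
    cyc c₂ c₁ i = (cyc c₁ c₂ i)⁻¹ := by
  rw [cyc, cyc, mul_inv_rev, swap_inv, swap_inv, swap_comm c₂ c₁]
  have := swap_apply_apply (swap c₁ c₂) c₁ i
  rw [swap_apply_left, swap_apply_of_ne_of_ne h1 h2, swap_inv] at this
  rw [this, mul_assoc, swap_mul_self, mul_one]

theorem cj_z {σ : Perm (Pts m)} {i j : ZMod m} (h0 : σ (Sum.inl 0) = Sum.inl 0)
    (h1 : σ (Sum.inl 1) = Sum.inl 1) (h : σ (Sum.inr i) = Sum.inr j) : cj σ (z i) = z j :=
  Subtype.ext (by rw [cj_val, z_val, z_val, conj_cyc, h0, h1, h])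

theorem cj_z_inv {σ : Perm (Pts m)} {i j : ZMod m} (h0 : σ (Sum.inl 0) = Sum.inl 1)
    (h1 : σ (Sum.inl 1) = Sum.inl 0) (h : σ (Sum.inr i) = Sum.inr j) : cj σ (z i) = (z j)⁻¹ :=
  Subtype.ext (by rw [cj_val, InvMemClass.coe_inv, z_val, z_val, conj_cyc, h0, h1, h,
    cyc_flip (by simp) (by simp)])

/-- The swap of the marked points. -/
def τ : Perm (Pts m) := swap (Sum.inl 0) (Sum.inl 1)

/-- The swap to the power given by a sign. -/
def τs (ε : ℤˣ) : Perm (Pts m) := if ε = 1 then 1 else τ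

@[simp] theorem τ_inl_zero : (τ (m := m)) (Sum.inl 0) = Sum.inl 1 := swap_apply_left _ _
@[simp] theorem τ_inl_one : (τ (m := m)) (Sum.inl 1) = Sum.inl 0 := swap_apply_right _ _
@[simp] theorem τ_inr (i : ZMod m) : (τ (m := m)) (Sum.inr i) = Sum.inr i :=
  swap_apply_of_ne_of_ne (by simp) (by simp)

theorem τ_mul_τ : (τ : Perm (Pts m)) * τ = 1 := swap_mul_self _ _

theorem sign_τ : sign (τ : Perm (Pts m)) = -1 := sign_swap c_ne

theorem cj_τ_z (i : ZMod m) : cj τ (z i) = (z i)⁻¹ := cj_z_inv (by simp) (by simp) (by simp)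

/-- A permutation of the cyclic part. -/
def onR (f : Perm (ZMod m)) : Perm (Pts m) := Equiv.sumCongr (Equiv.refl (Fin 2)) f

@[simp] theorem onR_inl (f : Perm (ZMod m)) (x : Fin 2) : onR f (Sum.inl x) = Sum.inl x := rfl
@[simp] theorem onR_inr (f : Perm (ZMod m)) (x : ZMod m) : onR f (Sum.inr x) = Sum.inr (f x) := rfl

theorem sign_onR (f : Perm (ZMod m)) : sign (onR f) = sign f := by
  rw [onR, show Equiv.sumCongr (Equiv.refl (Fin 2)) f = Perm.sumCongr (1 : Perm (Fin 2)) f from rfl,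
    sign_sumCongr, map_one, one_mul]

/-- The translation. -/
def tr (c : ZMod m) : Perm (Pts m) := onR (Equiv.addRight c)

@[simp] theorem tr_inl (c : ZMod m) (x : Fin 2) : tr c (Sum.inl x) = Sum.inl x := rfl
@[simp] theorem tr_inr (c i : ZMod m) : tr c (Sum.inr i) = Sum.inr (i + c) := rfl

theorem tr_pow (c : ZMod m) (k : ℕ) : tr c ^ k = tr (k • c) := by
  induction k with
  | zero => ext (x | x) <;> simp
  | succ k ih =>
    rw [pow_succ, ih]
    ext (x | x)
    · simp
    · simp only [Perm.mul_apply, tr_inr, succ_nsmul, Sum.inr.injEq]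
      abel

theorem tr_zero : tr (0 : ZMod m) = 1 := by simpa using (tr_pow (0 : ZMod m) 0).symm

theorem tr_pow_m (c : ZMod m) : tr c ^ m = 1 := by
  rw [tr_pow, nsmul_eq_mul, ZMod.natCast_self, zero_mul, tr_zero]

theorem τ_comm_onR (f : Perm (ZMod m)) : τ * onR f = onR f * τ := by
  ext (x | x)
  · fin_cases x <;> simp
  · simp

theorem sign_tr_one : sign (tr (1 : ZMod m)) = (-1) ^ (m - 1) := by
  obtain ⟨k, rfl⟩ : ∃ k, m = k + 1 := ⟨m - 1, by have := NeZero.pos m; omega⟩
  rw [tr, sign_onR]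
  exact (congrArg (fun f : Perm (Fin (k + 1)) => sign f)
    (Equiv.ext fun i => (finRotate_succ_apply i).symm : Equiv.addRight (1 : Fin (k + 1)) = finRotate (k + 1))).trans
      (sign_finRotate (k + 1))

theorem sign_tr_odd (hm : Odd m) (c : ZMod m) : sign (tr c) = 1 := by
  have h := congrArg sign (tr_pow_m c)
  rw [map_pow, map_one] at h
  rcases Int.units_eq_one_or (sign (tr c)) with e | e
  · exact e
  · rw [e, hm.neg_one_pow] at h
    exact absurd h (by decide)

/-- A subgroup holding one three-cycle and closed under the shift is everything. -/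
theorem top_of_shift (K : Subgroup (Alt m)) (h0 : z 0 ∈ K) (σ : Perm (Pts m))
    (hσ : ∀ x ∈ K, cj σ x ∈ K) (hz : ∀ i, cj σ (z i) = z (i + 1) ∨ cj σ (z i) = (z (i + 1))⁻¹) :
    K = ⊤ := by
  have h : ∀ k : ℕ, z (k : ZMod m) ∈ K := by
    intro k
    induction k with
    | zero => simpa using h0
    | succ k ih =>
      rw [Nat.cast_succ]
      rcases hz k with e | e
      · exact e ▸ hσ _ ih
      · exact (K.inv_mem_iff).1 (e ▸ hσ _ ih)
  rw [eq_top_iff, ← closure_z, Subgroup.closure_le]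
  rintro _ ⟨i, rfl⟩
  simpa using h i.val

/-- All permutations from the even ones and an odd one. -/
theorem top_of_odd (K : Subgroup (Perm (Pts m))) (hA : Alt m ≤ K) {x : Perm (Pts m)} (hx : x ∈ K)
    (hs : sign x = -1) : K = ⊤ := by
  refine eq_top_iff.2 fun σ _ => ?_
  rcases Int.units_eq_one_or (sign σ) with e | e
  · exact hA e
  · have : σ * x ∈ Alt m := by
      rw [Alt, Equiv.Perm.mem_alternatingGroup, map_mul, e, hs]; rfl
    exact (K.mul_mem_cancel_right hx).1 (hA this)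

/-- Two homomorphisms agreeing on the three-cycles missing a point agree on what fixes it. -/
theorem eq_of_fix {Γ : Type*} [Group Γ] (f g : Alt m →* Γ) (e : ZMod m)
    (h : ∀ i, i ≠ e → f (z i) = g (z i)) (x : Alt m)
    (hx : (x : Perm (Pts m)) (Sum.inr e) = Sum.inr e) : f x = g x := by
  classical
  set S : Finset (Pts m) := Finset.univ.erase (Sum.inr e) with hS
  have h1 : (Sum.inl 0 : Pts m) ∈ S := by simp [hS]
  have h2 : (Sum.inl 1 : Pts m) ∈ S := by simp [hS]
  let inc : alternatingGroup {y // y ∈ S} →* Alt m :=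
    ((Equiv.Perm.ofSubtype (p := fun y => y ∈ S)).comp (alternatingGroup {y // y ∈ S}).subtype).codRestrict
      (Alt m) fun g => by
        rw [MonoidHom.comp_apply, Alt, Equiv.Perm.mem_alternatingGroup, Equiv.Perm.sign_ofSubtype]
        exact Equiv.Perm.mem_alternatingGroup.1 g.2
  have hp : ∀ y, y ∈ S ↔ (x : Perm (Pts m)) y ∈ S := fun y => by
    simp only [hS, Finset.mem_erase, Finset.mem_univ, and_true, ne_eq]
    rw [not_iff_not, ← hx]
    exact ((x : Perm (Pts m)).injective.eq_iff.trans (by rw [hx])).symm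
  have hmov : ∀ y, (x : Perm (Pts m)) y ≠ y → y ∈ S := fun y hy => by
    simp only [hS, Finset.mem_erase, Finset.mem_univ, and_true, ne_eq]
    rintro rfl
    exact hy hx
  have hagree : f.comp inc = g.comp inc := by
    refine Carmichael.hom_ext (c₁ := (⟨Sum.inl 0, h1⟩ : {y // y ∈ S})) (c₂ := ⟨Sum.inl 1, h2⟩)
      (by simp) fun j => ?_
    obtain ⟨⟨x | i, hi⟩, e1, e2⟩ := j
    · fin_cases x
      · exact absurd rfl e1
      · exact absurd rfl e2
    · have hie : i ≠ e := by rintro rfl; simp [hS] at hi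
      have : inc (gen (by simp) ⟨⟨Sum.inr i, hi⟩, e1, e2⟩) = z i := Subtype.ext (by
        show Equiv.Perm.ofSubtype (cyc (⟨Sum.inl 0, h1⟩ : {y // y ∈ S}) ⟨Sum.inl 1, h2⟩ ⟨Sum.inr i, hi⟩) = _
        rw [z_val, cyc, cyc, map_mul, Equiv.Perm.ofSubtype_swap_eq, Equiv.Perm.ofSubtype_swap_eq])
      rw [MonoidHom.comp_apply, MonoidHom.comp_apply, this, h i hie]
  have hs : sign ((x : Perm (Pts m)).subtypePerm fun y => (hp y).symm) = 1 := by
    rw [← Equiv.Perm.sign_ofSubtype, Equiv.Perm.ofSubtype_subtypePerm (fun y => (hp y).symm) hmov]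
    exact Equiv.Perm.mem_alternatingGroup.1 x.2
  have hinc : inc ⟨_, Equiv.Perm.mem_alternatingGroup.2 hs⟩ = x :=
    Subtype.ext (Equiv.Perm.ofSubtype_subtypePerm (fun y => (hp y).symm) hmov)
  rw [← hinc]
  exact DFunLike.congr_fun hagree _

end Fin

/-- Powers of a permutation vanish as soon as they fix a point reaching all moved ones. -/
theorem pow_eq_one_of_orbit {α : Type*} (q : Perm α) (x₀ : α) {N : ℕ}
    (hcov : ∀ x, q x ≠ x → ∃ k : ℕ, (q ^ k) x₀ = x) (hfix : (q ^ N) x₀ = x₀) : q ^ N = 1 := by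
  ext x
  by_cases hx : q x = x
  · exact Equiv.Perm.pow_apply_eq_self_of_apply_eq_self hx N
  · obtain ⟨k, rfl⟩ := hcov x hx
    rw [← Perm.mul_apply, ← pow_add, add_comm, pow_add, Perm.mul_apply, hfix]
    rfl

section Prime

variable {p : ℕ} [Fact p.Prime]

/-- An even natural number generating the units. -/
theorem exists_root (hp : 3 ≤ p) : ∃ r : ℕ, Even r ∧ (r : ZMod p) ≠ 1 ∧ (r : ZMod p) ≠ 0 ∧
    ∀ x : ZMod p, x ≠ 0 → ∃ k : ℕ, (r : ZMod p) ^ k = x := by
  obtain ⟨g, hg⟩ := IsCyclic.exists_monoid_generator (α := (ZMod p)ˣ)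
  have hodd : Odd p := (Fact.out : p.Prime).odd_of_ne_two (by omega)
  have hcov : ∀ x : ZMod p, x ≠ 0 → ∃ k : ℕ, (g : ZMod p) ^ k = x := fun x hx => by
    obtain ⟨k, hk⟩ := hg (Units.mk0 x hx)
    exact ⟨k, by simpa using congrArg Units.val hk⟩
  have hne : (g : ZMod p) ≠ 1 := fun e => by
    obtain ⟨k, hk⟩ := hcov (-1) (neg_ne_zero.2 one_ne_zero)
    rw [e, one_pow] at hk
    have : Fact (2 < p) := ⟨by omega⟩
    exact ZMod.neg_one_ne_one hk.symm
  obtain ⟨r, hr, he⟩ : ∃ r : ℕ, (r : ZMod p) = g ∧ Even r := by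
    rcases Nat.even_or_odd (g : ZMod p).val with h | h
    · exact ⟨_, ZMod.natCast_zmod_val _, h⟩
    · exact ⟨(g : ZMod p).val + p, by simp, h.add_odd hodd⟩
  exact ⟨r, he, hr ▸ hne, hr ▸ g.ne_zero, fun x hx => hr ▸ hcov x hx⟩

/-- Multiplication by a primitive root is odd. -/
theorem sign_mulLeft (hp : 3 ≤ p) {u : ZMod p} (hu0 : u ≠ 0) (hu1 : u ≠ 1)
    (hcov : ∀ x : ZMod p, x ≠ 0 → ∃ k : ℕ, u ^ k = x) :
    sign (Equiv.mulLeft₀ u hu0) = -1 := by
  set f := Equiv.mulLeft₀ u hu0 with hf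
  have happ : ∀ x, f x = u * x := fun x => rfl
  have hpow : ∀ k : ℕ, (f ^ k) 1 = u ^ k := fun k => by
    induction k with
    | zero => simp
    | succ k ih => rw [pow_succ', Perm.mul_apply, ih, happ, pow_succ']
  have hsupp : f.support = Finset.univ.erase 0 := by
    ext x
    simp [happ, mul_left_eq_self₀, hu1]
  have hcyc : f.IsCycle := by
    refine ⟨1, by rw [happ, mul_one]; exact hu1, fun y hy => ?_⟩
    obtain ⟨k, hk⟩ := hcov y fun e => hy (by rw [happ, e, mul_zero])
    exact ⟨k, by rw [zpow_natCast, hpow, hk]⟩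
  rw [hcyc.sign, hsupp, Finset.card_erase_of_mem (Finset.mem_univ _), Finset.card_univ, ZMod.card]
  have : Even (p - 1) := (Fact.out : p.Prime).even_sub_one (by omega)
  rw [this.neg_one_pow]

end Prime

section Embedding

variable [NeZero m] {p : ℕ} [NeZero p] (hpm : p ≤ m)

/-- The first `p` residues inside the integers modulo `m`. -/
def emb : Pts p ↪ Pts m :=
  Function.Embedding.sumMap (Function.Embedding.refl (Fin 2)) ⟨fun i => (i.val : ZMod m), fun a b h => by
    have := congrArg ZMod.val h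
    simp only [ZMod.val_natCast_of_lt ((ZMod.val_lt a).trans_le hpm),
      ZMod.val_natCast_of_lt ((ZMod.val_lt b).trans_le hpm)] at this
    exact ZMod.val_injective _ this⟩

@[simp] theorem emb_inl (x : Fin 2) : emb hpm (Sum.inl x) = Sum.inl x := rfl
@[simp] theorem emb_inr (i : ZMod p) : emb hpm (Sum.inr i) = Sum.inr (i.val : ZMod m) := rfl

/-- The inclusion of alternating groups. -/
noncomputable def embHom : Alt p →* Alt m :=
  ((Equiv.Perm.viaEmbeddingHom (emb hpm)).comp (Alt p).subtype).codRestrict (Alt m) fun g => by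
    rw [MonoidHom.comp_apply, Alt, Equiv.Perm.mem_alternatingGroup]
    show sign ((g : Perm (Pts p)).viaEmbedding (emb hpm)) = 1
    rw [Equiv.Perm.viaEmbedding, Equiv.Perm.sign_extendDomain]
    exact Equiv.Perm.mem_alternatingGroup.1 g.2

theorem embHom_apply (g : Alt p) (x : Pts p) :
    (embHom hpm g : Perm (Pts m)) (emb hpm x) = emb hpm ((g : Perm (Pts p)) x) :=
  Equiv.Perm.viaEmbedding_apply _ _ _

theorem embHom_apply_ge (g : Alt p) {k : ℕ} (hk : k < m) (hpk : p ≤ k) :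
    (embHom hpm g : Perm (Pts m)) (Sum.inr (k : ZMod m)) = Sum.inr (k : ZMod m) := by
  refine Equiv.Perm.viaEmbedding_apply_of_notMem _ _ _ ?_
  rintro ⟨x | i, h⟩
  · simp at h
  · rw [emb_inr, Sum.inr.injEq] at h
    have := congrArg ZMod.val h
    rw [ZMod.val_natCast_of_lt ((ZMod.val_lt i).trans_le hpm), ZMod.val_natCast_of_lt hk] at this
    have := ZMod.val_lt i
    omega

theorem embHom_z (i : ZMod p) : embHom hpm (z i) = z (i.val : ZMod m) := by
  refine Subtype.ext (Equiv.ext fun x => ?_)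
  by_cases hx : x ∈ Set.range (emb hpm)
  · obtain ⟨y, rfl⟩ := hx
    rw [embHom_apply, z_val, z_val, ← emb_inl hpm 0, ← emb_inl hpm 1, ← emb_inr hpm i]
    simp only [cyc, Perm.mul_apply]
    rw [(emb hpm).swap_apply, (emb hpm).swap_apply]
  · rw [show (embHom hpm (z i) : Perm (Pts m)) x = x from
      Equiv.Perm.viaEmbedding_apply_of_notMem _ _ _ hx, z_val, cyc, Perm.mul_apply]
    have hne : ∀ y, x ≠ emb hpm y := fun y e => hx ⟨y, e.symm⟩
    rw [swap_apply_of_ne_of_ne (x := x) (by exact hne (Sum.inl 0)) (by exact hne (Sum.inl 1)),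
      swap_apply_of_ne_of_ne (x := x) (by exact hne (Sum.inl 0)) (by exact hne (Sum.inr i))]

end Embedding

end CfsgLib.Presentations.AltSeven
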