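import Mathlib
import Cfsg.Agent.Lib.Presentations.SLPrime
import Cfsg.Agent.Lib.Presentations.AltSeven.Perm
import Cfsg.Agent.Lib.Presentations.AltGlue

/-!
The alternating group of the projective-line sized window from a cycle and a three-cycle.
-/

set_option autoImplicit false

namespace CfsgLib.Presentations.AltSeven

open Equiv Equiv.Perm
open Carmichael
open Multiplicative (ofAdd)

section General

variable {Γ : Type*} [Group Γ]

theorem commute_lift {κ : Type*} {f : κ → Γ} {x : Γ} (h : ∀ i, Commute x (f i)) (w : FreeGroup κ) :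
    Commute x (FreeGroup.lift f w) := by
  have : (FreeGroup.lift f).range ≤ Subgroup.centralizer {x} := by
    rw [FreeGroup.range_lift_eq_closure, Subgroup.closure_le]
    rintro _ ⟨i, rfl⟩
    rw [SetLike.mem_coe, Subgroup.mem_centralizer_singleton_iff]
    exact (h i).eq.symm
  exact (Subgroup.mem_centralizer_singleton_iff.1 (this ⟨w, rfl⟩)).symm

theorem conj_natural {H : Type*} [Group H] (Φ : H →* Γ) {κ : Type*} (f : κ → Γ) (g : κ → H)
    (h : ∀ i x, f i * Φ x * (f i)⁻¹ = Φ (g i * x * (g i)⁻¹)) (w : FreeGroup κ) (x : H) :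
    FreeGroup.lift f w * Φ x * (FreeGroup.lift f w)⁻¹
      = Φ (FreeGroup.lift g w * x * (FreeGroup.lift g w)⁻¹) := by
  induction w using FreeGroup.induction_on generalizing x with
  | C1 => simp
  | of i => simpa using h i x
  | inv_of i _ =>
    have := h i ((g i)⁻¹ * x * g i)
    rw [show g i * ((g i)⁻¹ * x * g i) * (g i)⁻¹ = x by group] at this
    simp only [map_inv, FreeGroup.lift_apply_of, inv_inv]
    rw [← this]; group
  | mul a b iha ihb =>
    rw [(FreeGroup.lift f).map_mul, (FreeGroup.lift g).map_mul, mul_inv_rev]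
    rw [show FreeGroup.lift f a * FreeGroup.lift f b * Φ x * ((FreeGroup.lift f b)⁻¹ * (FreeGroup.lift f a)⁻¹)
      = FreeGroup.lift f a * (FreeGroup.lift f b * Φ x * (FreeGroup.lift f b)⁻¹) * (FreeGroup.lift f a)⁻¹
      by group, ihb, iha]
    congr 1; group

/-- The two relations forced on a central element by three involutions. -/
theorem pow_eight_eq_one {z y c : Γ} (hz : z ^ 3 = c) (hy : y ^ 3 = c) (hzy : (z * y) ^ 2 = 1) :
    c ^ 8 = 1 := by
  have hcz : Commute c z := hz ▸ Commute.pow_self z 3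
  have hcy : Commute c y := hy ▸ Commute.pow_self y 3
  set u := z * y with hu
  set W := z⁻¹ with hW
  have hcu : Commute c u := hcz.mul_right hcy
  have hcW : Commute c W := hcz.inv_right
  have hW3 : W ^ 3 = c⁻¹ := by rw [hW, inv_pow, hz]
  have hu2 : u * u = 1 := by rw [← pow_two]; exact hzy
  set v := W * u * W⁻¹ with hv
  set w := W⁻¹ * u * W with hw
  have hWu : (W * u) ^ 3 = c := by rw [hW, hu, inv_mul_cancel_left, hy]
  clear_value u W v w
  clear hW hu hzy hcz hcy hz hy z y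
  have hvw : v * w = c ^ 2 * u := by
    have h1 : v * w * (W ^ 3 * u) = c := by
      rw [← hWu]
      have h2 : w = W ^ 2 * u * (W ^ 2)⁻¹ := by
        rw [hw, eq_mul_inv_iff_mul_eq]
        have h3 : u * W ^ 3 = W ^ 3 * u := by rw [hW3]; exact (hcu.inv_left).eq.symm
        calc W⁻¹ * u * W * W ^ 2 = W⁻¹ * (u * W ^ 3) := by group
          _ = W ^ 2 * u := by rw [h3]; group
      rw [h2, hv, pow_three (W * u)]; group
    rw [eq_mul_inv_of_mul_eq h1, hW3, mul_inv_rev, inv_inv, inv_eq_of_mul_eq_one_right hu2,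
      ← mul_assoc, hcu.eq, mul_assoc, ← pow_two, (hcu.pow_left 2).eq]
  have hcW2 : Commute (c ^ 2) W := hcW.pow_left 2
  have hwu : w * u = c ^ 2 * v := by
    have h3 : W ^ 3 * u = u * W ^ 3 := by rw [hW3]; exact (hcu.inv_left).eq
    have h : W * (v * w) * W⁻¹ = W * (c ^ 2 * u) * W⁻¹ := by rw [hvw]
    rw [show W * (v * w) * W⁻¹ = (W * v * W⁻¹) * u by rw [hw]; group,
      show W * (c ^ 2 * u) * W⁻¹ = c ^ 2 * v by
        rw [hv, ← mul_assoc, hcW2.eq.symm, mul_assoc, mul_assoc, mul_assoc]] at h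
    rw [← h]
    congr 1
    rw [hw, hv]
    calc W⁻¹ * u * W = W⁻¹ * (u * W ^ 3) * (W ^ 2)⁻¹ := by group
      _ = _ := by rw [← h3]; simp only [pow_succ, pow_zero, one_mul]; group
  have huv : u * v = c ^ 2 * w := by
    have h : W⁻¹ * (v * w) * W = W⁻¹ * (c ^ 2 * u) * W := by rw [hvw]
    rw [show W⁻¹ * (v * w) * W = u * (W⁻¹ * w * W) by rw [hv]; group,
      show W⁻¹ * (c ^ 2 * u) * W = c ^ 2 * w by
        rw [hw, ← mul_assoc, ← mul_assoc, ← hcW2.inv_right.eq, mul_assoc (c ^ 2), mul_assoc (c ^ 2)]] at h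
    rw [← h]
    congr 1
    have h3 : W ^ 3 * u = u * W ^ 3 := by rw [hW3]; exact (hcu.inv_left).eq
    rw [hv, hw]
    calc W * u * W⁻¹ = (W ^ 2)⁻¹ * (W ^ 3 * u) * W⁻¹ := by group
      _ = _ := by rw [h3]; simp only [pow_succ, pow_zero, one_mul]; group
  have hv2 : v * v = 1 := by
    rw [hv, show W * u * W⁻¹ * (W * u * W⁻¹) = W * (u * u) * W⁻¹ by group, hu2]; group
  have hw2 : w * w = 1 := by
    rw [hw, show W⁻¹ * u * W * (W⁻¹ * u * W) = W⁻¹ * (u * u) * W by group, hu2]; group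
  have hui : u⁻¹ = u := inv_eq_of_mul_eq_one_right hu2
  have hvi : v⁻¹ = v := inv_eq_of_mul_eq_one_right hv2
  have hwi : w⁻¹ = w := inv_eq_of_mul_eq_one_right hw2
  have e1 : u * w * u = c ^ 4 * w := by
    rw [mul_assoc, hwu, ← mul_assoc, ← (hcu.pow_left 2).eq, mul_assoc, huv, ← mul_assoc, ← pow_add]
  have e2 : u * w = (c ^ 2)⁻¹ * v := by
    have := congrArg (fun x => x⁻¹) hwu
    simp only [mul_inv_rev, hui, hwi, hvi] at this
    rw [this, hv]
    exact (((hcW2.mul_right (hcu.pow_left 2)).mul_right hcW2.inv_right).inv_left).eq.symm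
  have e3 : v * u = (c ^ 2)⁻¹ * w := by
    have := congrArg (fun x => x⁻¹) huv
    simp only [mul_inv_rev, hui, hwi, hvi] at this
    rw [this, hw]
    exact (((hcW2.inv_right.mul_right (hcu.pow_left 2)).mul_right hcW2).inv_left).eq.symm
  rw [e2, mul_assoc, e3, ← mul_assoc, ← mul_inv_rev, ← pow_add] at e1
  have h8 : c ^ 4 * c ^ 4 = 1 := by
    have := mul_right_cancel e1
    rw [inv_eq_iff_mul_eq_one] at this
    exact this
  rwa [← pow_add] at h8

theorem pow_val_cast {p : ℕ} [NeZero p] {A : Γ} (hA : A ^ p = 1) (k : ℕ) :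
    A ^ ((k : ZMod p)).val = A ^ k := by
  rw [ZMod.val_natCast, ← pow_eq_pow_mod _ hA]

end General

variable {Γ : Type*} [Group Γ] {p : ℕ} [Fact p.Prime]

/-- The translation as an even permutation. -/
noncomputable def aσ (hp : Odd p) : Alt p :=
  ⟨tr 1, Equiv.Perm.mem_alternatingGroup.2 (sign_tr_odd hp 1)⟩

theorem aσ_conj (hp : Odd p) (i : ZMod p) : aσ hp * z i * (aσ hp)⁻¹ = z (i + 1) := by
  rw [← cj_coe]; exact cj_z (tr_inl _ _) (tr_inl _ _) (tr_inr _ _)

theorem aσ_pow_conj (hp : Odd p) (k : ℕ) (i : ZMod p) :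
    aσ hp ^ k * z i * (aσ hp ^ k)⁻¹ = z (i + (k : ZMod p)) := by
  induction k with
  | zero => simp
  | succ k ih =>
    rw [pow_succ', show aσ hp * aσ hp ^ k * z i * (aσ hp * aσ hp ^ k)⁻¹
      = aσ hp * (aσ hp ^ k * z i * (aσ hp ^ k)⁻¹) * (aσ hp)⁻¹ by group, ih, aσ_conj, Nat.cast_succ,
      add_assoc]

theorem aσ_pow (hp : Odd p) : aσ hp ^ p = 1 :=
  Subtype.ext (by rw [SubmonoidClass.coe_pow]; exact tr_pow_m 1)

theorem closure_aσ_z (hp : Odd p) :
    Subgroup.closure (Set.range ![aσ hp, z (0 : ZMod p)]) = ⊤ := by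
  refine top_of_shift _ (Subgroup.subset_closure ⟨1, rfl⟩) (tr 1) (fun x hx => ?_) fun i =>
    Or.inl (cj_z (tr_inl _ _) (tr_inl _ _) (tr_inr _ _))
  rw [show cj (tr 1) x = aσ hp * x * (aσ hp)⁻¹ from cj_coe (aσ hp) x]
  have ha : aσ hp ∈ Subgroup.closure (Set.range ![aσ hp, z (0 : ZMod p)]) :=
    Subgroup.subset_closure ⟨0, rfl⟩
  exact mul_mem (mul_mem ha hx) (inv_mem ha)

/-- Translations of the pair relation. -/
theorem crels_translates {A Z C : Γ} {r : ℕ} {δ : ℤ} (hδ : δ = 1 ∨ δ = -1) (hA : A ^ p = 1)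
    (hZ : Z ^ 3 = 1) (hpair : (Z * (A * Z * A⁻¹)) ^ 2 = 1) (hCA : C * A * C⁻¹ = A ^ r)
    (hCZ : C * Z * C⁻¹ = Z ^ δ)
    (hcov : ∀ x : ZMod p, x ≠ 0 → ∃ k : ℕ, (r : ZMod p) ^ k = x) :
    CRels fun i : ZMod p => A ^ i.val * Z * (A ^ i.val)⁻¹ := by
  obtain ⟨X, hX⟩ := exists_powHom A hA
  set y : ZMod p → Γ := fun i => A ^ i.val * Z * (A ^ i.val)⁻¹ with hy
  have hyX : ∀ i, y i = X (ofAdd i) * Z * (X (ofAdd i))⁻¹ := fun i => by rw [hX]
  have hC : ∀ c : ZMod p, C * y c * C⁻¹ = y (r * c) ^ δ := fun c => by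
    have e : C * A ^ c.val * C⁻¹ = A ^ ((r : ZMod p) * c).val := by
      rw [← conj_pow, hCA, ← pow_mul, ← pow_val_cast hA (r * c.val), Nat.cast_mul,
        ZMod.natCast_zmod_val]
    simp only [hy]
    rw [conj_zpow, ← hCZ, ← e]
    group
  have hpow : ∀ k : ℕ, (y 0 * y ((r : ZMod p) ^ k)) ^ 2 = 1 := by
    intro k
    induction k with
    | zero =>
      rw [pow_zero]
      simp only [hy, ZMod.val_zero, pow_zero, inv_one, mul_one, one_mul, ZMod.val_one, pow_one]
      exact hpair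
    | succ k ih =>
      refine pair_of_signed hδ ?_
      have e0 := hC 0
      rw [mul_zero] at e0
      rw [← e0, pow_succ' (r : ZMod p), ← hC, conj_mul, conj_pow, ih]
      group
  refine ⟨fun i => ?_, fun i j hij => ?_⟩
  · show y i ^ 3 = 1
    rw [hyX, conj_pow, hZ]; group
  · obtain ⟨k, hk⟩ := hcov (j - i) (sub_ne_zero.2 hij.symm)
    have e : ∀ d, y (i + d) = X (ofAdd i) * y d * (X (ofAdd i))⁻¹ := fun d => by
      rw [hyX, hyX, ofAdd_add, map_mul]; group
    show (y i * y j) ^ 2 = 1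
    rw [show i = i + 0 from (add_zero i).symm, show j = i + (j - i) by abel, ← hk, e, e, conj_mul,
      conj_pow, hpow k]
    group

/-- The window: a translation and a three-cycle satisfying four relations. -/
theorem prime_hom (hodd : Odd p) {W : Alt p → FreeGroup (Fin 2)}
    (hW : ∀ σ, FreeGroup.lift ![aσ hodd, z (0 : ZMod p)] (W σ) = σ)
    {A Z C : Γ} {r : ℕ} {δ : ℤ} (hδ : δ = 1 ∨ δ = -1) (hA : A ^ p = 1) (hZ : Z ^ 3 = 1)
    (hpair : (Z * (A * Z * A⁻¹)) ^ 2 = 1) (hCA : C * A * C⁻¹ = A ^ r) (hCZ : C * Z * C⁻¹ = Z ^ δ)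
    (hr1 : (r : ZMod p) ≠ 1) (hcov : ∀ x : ZMod p, x ≠ 0 → ∃ k : ℕ, (r : ZMod p) ^ k = x)
    {b : Alt p} (hb : b * aσ hodd * b⁻¹ = aσ hodd ^ r)
    (hBA : FreeGroup.lift ![A, Z] (W b) * A * (FreeGroup.lift ![A, Z] (W b))⁻¹ = A ^ r) :
    ∃ Φ : Alt p →* Γ, Φ (aσ hodd) = A ∧ Φ (z 0) = Z ∧ ∀ σ, FreeGroup.lift ![A, Z] (W σ) = Φ σ := by
  obtain ⟨Φ, hΦ⟩ := exists_hom_z _ (crels_translates hδ hA hZ hpair hCA hCZ hcov)
  have hΦ0 : Φ (z 0) = Z := by rw [hΦ]; simp
  have hconjA : ∀ x, A * Φ x * A⁻¹ = Φ (aσ hodd * x * (aσ hodd)⁻¹) := fun x => by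
    have h : (MulAut.conj A).toMonoidHom.comp Φ = Φ.comp (MulAut.conj (aσ hodd)).toMonoidHom := by
      refine hom_ext_z fun i => ?_
      simp only [MonoidHom.comp_apply, MulEquiv.coe_toMonoidHom, MulAut.conj_apply, aσ_conj, hΦ]
      have e : A ^ (i + 1).val = A * A ^ i.val := by
        rw [← pow_succ', ← pow_val_cast hA (i.val + 1), Nat.cast_succ, ZMod.natCast_zmod_val]
      rw [e]; group
    exact DFunLike.congr_fun h x
  set e := (Φ (aσ hodd))⁻¹ * A with he
  have hAe : A = Φ (aσ hodd) * e := by rw [he, mul_inv_cancel_left]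
  have hcomm : ∀ x, Commute e (Φ x) := fun x => by
    have h1 := hconjA x
    rw [map_mul, map_mul, map_inv, hAe] at h1
    show e * Φ x = Φ x * e
    calc e * Φ x = (Φ (aσ hodd))⁻¹ * (Φ (aσ hodd) * e * Φ x * (Φ (aσ hodd) * e)⁻¹) * Φ (aσ hodd) * e := by
          group
      _ = Φ x * e := by rw [h1]; group
  have heA : Commute e A := hAe.symm ▸ (hcomm _).mul_right (Commute.refl e)
  set f : Fin 2 → Γ := ![A, Z] with hf
  set B := FreeGroup.lift f (W b) with hB
  have heB : Commute e B := commute_lift (f := f) (fun i => by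
    fin_cases i
    · exact heA
    · exact (congrArg (Commute e) hΦ0).mp (hcomm _)) _
  have hBconj : B * Φ (aσ hodd) * B⁻¹ = Φ (aσ hodd ^ r) := by
    rw [hB, conj_natural Φ f ![aσ hodd, z 0] (fun i x => by
      fin_cases i
      · exact hconjA x
      · show Z * Φ x * Z⁻¹ = Φ (z 0 * x * (z 0)⁻¹)
        rw [map_mul, map_mul, map_inv, hΦ0]) (W b) (aσ hodd), hW, hb]
  have hep : e ^ p = 1 := by
    have := hA
    rw [hAe, (hcomm _).symm.mul_pow, ← map_pow, aσ_pow, map_one, one_mul] at this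
    exact this
  have her : e ^ r = e := by
    have h := hBA
    rw [hAe, show B * (Φ (aσ hodd) * e) * B⁻¹ = (B * Φ (aσ hodd) * B⁻¹) * (B * e * B⁻¹) by group,
      hBconj, ← heB.eq, mul_inv_cancel_right, (hcomm _).symm.mul_pow, ← map_pow] at h
    exact (mul_left_cancel h).symm
  have he1 : e = 1 := by
    rcases (Fact.out : p.Prime).eq_one_or_self_of_dvd _ (orderOf_dvd_of_pow_eq_one hep) with h | h
    · exact orderOf_eq_one_iff.1 h
    · exfalso
      apply hr1
      rw [← Nat.cast_one, ZMod.natCast_eq_natCast_iff, ← h]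
      exact pow_eq_pow_iff_modEq.1 (her.trans (pow_one e).symm)
  rw [he1, mul_one] at hAe
  refine ⟨Φ, hAe.symm, hΦ0, fun σ => ?_⟩
  conv_rhs => rw [← hW σ]
  rw [lift_natural]
  congr 2
  funext i
  fin_cases i
  · exact hAe
  · exact hΦ0.symm

/-- The relations pin the third power. -/
theorem central_eq_one {c : Γ} {r M : ℕ} (hr : Even r) (hcr : c ^ r = c) (hc : c ^ (2 ^ M) = 1) :
    c = 1 := by
  obtain ⟨s, hs, hs'⟩ := (Nat.dvd_prime_pow Nat.prime_two).1 (orderOf_dvd_of_pow_eq_one hc)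
  rcases Nat.eq_zero_or_pos s with rfl | hs0
  · exact orderOf_eq_one_iff.1 hs'
  · exfalso
    have h1 : r ≡ 1 [MOD orderOf c] := pow_eq_pow_iff_modEq.1 (hcr.trans (pow_one c).symm)
    have h2 : r ≡ 1 [MOD 2] := h1.of_dvd (hs' ▸ dvd_pow_self 2 hs0.ne')
    rw [Nat.ModEq, Nat.even_iff.1 hr] at h2
    exact absurd h2 (by norm_num)

end CfsgLib.Presentations.AltSeven
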