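import Mathlib
import Cfsg.Agent.Lib.Presentations.AltSeven.Prime

/-!
From a window to the whole cycle, by periodicity.
-/

set_option autoImplicit false
set_option linter.unusedSectionVars false

namespace CfsgLib.Presentations.AltSeven

open Equiv Equiv.Perm
open Carmichael

variable {Γ : Type*} [Group Γ] {p : ℕ} [Fact p.Prime]

theorem two_ne_zero' (hp : Odd p) : (2 : ZMod p) ≠ 0 := fun h => by
  have h2 : p ∣ 2 := (ZMod.natCast_eq_zero_iff 2 p).1 (by simpa using h)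
  have := (Nat.prime_dvd_prime_iff_eq (Fact.out : p.Prime) Nat.prime_two).1 h2
  rw [this] at hp
  exact absurd hp (by decide)

theorem neg_two_ne_neg_one : (-2 : ZMod p) ≠ -1 := fun h => by
  have : (1 : ZMod p) = 0 := by linear_combination -h
  exact one_ne_zero this

/-- An even permutation shifting the window. -/
noncomputable def wσ (hp : Odd p) : Alt p :=
  ⟨τ * tr 1 * onR (swap (-1) (-2)), Equiv.Perm.mem_alternatingGroup.2 (by
    rw [map_mul, map_mul, sign_τ, sign_tr_odd hp, sign_onR, sign_swap neg_two_ne_neg_one.symm]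
    rfl)⟩

theorem wσ_fix (hp : Odd p) :
    (wσ hp : Perm (Pts p)) (Sum.inr (-1)) = Sum.inr (-1) := by
  show ((τ * tr 1 * onR (swap (-1) (-2))) : Perm (Pts p)) (Sum.inr (-1 : ZMod p)) = _
  rw [Perm.mul_apply, Perm.mul_apply, onR_inr, swap_apply_left, tr_inr, τ_inr]
  congr 1; ring

theorem wσ_conj (hp : Odd p) {i : ZMod p} (h1 : i ≠ -1) (h2 : i ≠ -2) :
    wσ hp * z i * (wσ hp)⁻¹ = (z (i + 1))⁻¹ := by
  rw [← cj_coe]
  refine cj_z_inv ?_ ?_ ?_ <;>
    simp [wσ, swap_apply_of_ne_of_ne h1 h2]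

theorem wσ_comm_τ (hp : Odd p) :
    (τ : Perm (Pts p)) * (wσ hp : Perm (Pts p)) * τ⁻¹ = (wσ hp : Perm (Pts p)) := by
  show (τ : Perm (Pts p)) * (τ * tr 1 * onR (swap (-1) (-2))) * τ⁻¹ = τ * tr 1 * onR (swap (-1) (-2))
  rw [mul_inv_eq_iff_eq_mul]
  simp only [mul_assoc]
  congr 1
  rw [tr, ← mul_assoc τ, τ_comm_onR, mul_assoc, τ_comm_onR]

/-- Stepping along the window. -/
theorem window_step (Φ : Alt p →* Γ) {h G G' : Γ} {ε δ : ℤ}
    (hδ : δ = 1 ∨ δ = -1) (h0 : h * Φ (z 0) * h⁻¹ = Φ (z 1) ^ ε) (hG : h * G * h⁻¹ = G')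
    (hGc : ∀ i : ZMod p, i ≠ -1 → i ≠ -2 → G * Φ (z i) * G⁻¹ = Φ (z (i + 1)) ^ δ)
    (hGc' : ∀ i : ZMod p, i ≠ -1 → i ≠ -2 →
      G' * Φ (z (i + 1)) * G'⁻¹ = Φ (z (i + 1 + 1)) ^ δ) :
    ∀ i : ZMod p, i ≠ -1 → h * Φ (z i) * h⁻¹ = Φ (z (i + 1)) ^ ε := by
  have key : ∀ k : ℕ, k + 2 ≤ p → h * Φ (z (k : ZMod p)) * h⁻¹ = Φ (z ((k : ZMod p) + 1)) ^ ε := by
    intro k
    induction k with
    | zero => intro _; simpa using h0
    | succ k ih =>
      intro hk
      have ne1 : (k : ZMod p) ≠ -1 := fun e => by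
        have : ((k + 1 : ℕ) : ZMod p) = 0 := by push_cast; rw [e]; ring
        have := Nat.le_of_dvd (by omega) ((ZMod.natCast_eq_zero_iff _ _).1 this)
        omega
      have ne2 : (k : ZMod p) ≠ -2 := fun e => by
        have : ((k + 2 : ℕ) : ZMod p) = 0 := by push_cast; rw [e]; ring
        have := Nat.le_of_dvd (by omega) ((ZMod.natCast_eq_zero_iff _ _).1 this)
        omega
      rw [Nat.cast_succ]
      have e : (h * Φ (z ((k : ZMod p) + 1)) * h⁻¹) ^ δ
          = (Φ (z ((k : ZMod p) + 1 + 1)) ^ ε) ^ δ := by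
        rw [conj_zpow, ← hGc _ ne1 ne2, show h * (G * Φ (z (k : ZMod p)) * G⁻¹) * h⁻¹
          = (h * G * h⁻¹) * (h * Φ (z (k : ZMod p)) * h⁻¹) * (h * G * h⁻¹)⁻¹ by group, hG,
          ih (by omega), ← conj_zpow, hGc' _ ne1 ne2, ← zpow_mul, ← zpow_mul, mul_comm]
      have := congrArg (· ^ δ) e
      simpa only [zpow_eps_cancel hδ] using this
  intro i hi
  have hlt := ZMod.val_lt i
  have : i.val ≠ p - 1 := fun e => hi (by
    rw [← ZMod.natCast_zmod_val i, e, Nat.cast_sub (Fact.out : p.Prime).one_le]; simp)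
  simpa using key i.val (by omega)

variable {m : ℕ} [NeZero m]

/-- The whole cycle from the window. -/
theorem period_hom (hpm : p ≤ m) (hlo : m < 2 * p) (Φ : Alt p →* Γ) (h : Γ) {ε : ℤ}
    (hε : ε = 1 ∨ ε = -1) (hεm : ε ^ m = 1)
    (hh : ∀ i : ZMod p, i ≠ -1 → h * Φ (z i) * h⁻¹ = Φ (z (i + 1)) ^ ε)
    (hd : Commute (h ^ m) (Φ (z 0))) :
    ∃ Ψ : Alt m →* Γ, Ψ.comp (embHom hpm) = Φ ∧
      ∀ i : ZMod m, h * Ψ (z i) * h⁻¹ = Ψ (z (i + 1)) ^ ε := by
  set Z := Φ (z 0) with hZ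
  let U : ℕ → Γ := fun j => h ^ j * Z ^ (ε ^ j) * (h ^ j)⁻¹
  have hεε : ε * ε = 1 := by rcases hε with rfl | rfl <;> rfl
  have hε2 : ∀ i : ℕ, ε ^ i * ε ^ i = 1 := fun i => by rw [← mul_pow, hεε, one_pow]
  have hεi : ∀ i : ℕ, ε ^ i = 1 ∨ ε ^ i = -1 := fun i => mul_self_eq_one_iff.1 (hε2 i)
  have hshift : ∀ i d, h ^ i * U d * (h ^ i)⁻¹ = U (i + d) ^ (ε ^ i) := fun i d => by
    simp only [U]
    rw [conj_zpow, ← zpow_mul, pow_add ε, mul_comm (ε ^ i) (ε ^ d), mul_assoc (ε ^ d), hε2, mul_one, pow_add]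
    group
  have hstep : ∀ j, h * U j * h⁻¹ = U (j + 1) ^ ε := fun j => by
    simpa [add_comm 1 j] using hshift 1 j
  have hper : Function.Periodic U m := fun j => by
    simp only [U, pow_add, hεm, mul_one]
    rw [mul_inv_rev, show h ^ j * h ^ m * Z ^ ε ^ j * ((h ^ m)⁻¹ * (h ^ j)⁻¹)
      = h ^ j * (h ^ m * Z ^ ε ^ j * (h ^ m)⁻¹) * (h ^ j)⁻¹ by group,
      (hd.zpow_right _).eq, mul_inv_cancel_right]
  have hU : ∀ k, k < p → U k = Φ (z (k : ZMod p)) := by
    intro k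
    induction k with
    | zero => intro _; simp [U, Z]
    | succ k ih =>
      intro hk
      have hne : (k : ZMod p) ≠ -1 := fun e => by
        have : ((k + 1 : ℕ) : ZMod p) = 0 := by push_cast; rw [e]; ring
        have := Nat.le_of_dvd (by omega) ((ZMod.natCast_eq_zero_iff _ _).1 this)
        omega
      have e := hstep k
      rw [ih (by omega), hh _ hne] at e
      have := congrArg (· ^ ε) e
      simp only [zpow_eps_cancel hε] at this
      rw [← this, Nat.cast_succ]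
  let y : ZMod m → Γ := fun i => U i.val
  have hy : ∀ n : ℕ, y (n : ZMod m) = U n := fun n => by
    simp only [y, ZMod.val_natCast]
    exact hper.map_mod_nat n
  have hp1 : 1 < p := (Fact.out : p.Prime).one_lt
  have hnear : ∀ i d : ℕ, 0 < d → d < p → (U i * U (i + d)) ^ 2 = 1 := fun i d hd0 hdp => by
    refine pair_of_signed (hεi i) ?_
    have e0 := hshift i 0
    rw [add_zero] at e0
    rw [← e0, ← hshift, conj_mul, conj_pow, hU 0 (by omega), hU d hdp, ← map_mul, ← map_pow,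
      z_pair (fun e => by
        have := congrArg ZMod.val e
        rw [ZMod.val_natCast_of_lt (by omega), ZMod.val_natCast_of_lt hdp] at this
        omega), map_one]
    group
  have hy2 : ∀ (i : ZMod m) (d : ℕ), y (i + d) = U (i.val + d) := fun i d => by
    rw [← hy]; push_cast; rw [ZMod.natCast_zmod_val]
  have hCR : CRels y := by
    refine ⟨fun i => ?_, fun i j hij => ?_⟩
    · show U i.val ^ 3 = 1
      simp only [U]
      have hcube : (Z ^ ε ^ i.val) ^ 3 = 1 := by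
        rw [← zpow_natCast, ← zpow_mul, mul_comm, zpow_mul, zpow_natCast, hZ, ← map_pow, z_cube,
          map_one, one_zpow]
      rw [conj_pow, hcube]; group
    · have hd0 : 0 < (j - i).val := Nat.pos_of_ne_zero fun e => hij
        (sub_eq_zero.1 ((ZMod.val_eq_zero _).1 e)).symm
      have hdm := ZMod.val_lt (j - i)
      have ej : j = i + ((j - i).val : ZMod m) := by simp
      have ei : i = j + ((m - (j - i).val : ℕ) : ZMod m) := by
        rw [Nat.cast_sub hdm.le]; simp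
      rcases Nat.lt_or_ge (j - i).val p with hlt | hge
      · rw [ej, hy2]
        exact hnear _ _ hd0 hlt
      · refine pair_comm' ?_
        rw [ei, hy2]
        exact hnear _ _ (by omega) (by omega)
  obtain ⟨Ψ, hΨ⟩ := exists_hom_z y hCR
  refine ⟨Ψ, hom_ext_z fun i => ?_, fun i => ?_⟩
  · rw [MonoidHom.comp_apply, embHom_z, hΨ, hy, hU _ (ZMod.val_lt i), ZMod.natCast_zmod_val]
  · rw [hΨ, hΨ, show i + 1 = i + ((1 : ℕ) : ZMod m) by simp, hy2]
    exact hstep _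

/-- The part of a normalising element outside the image. -/
theorem split {H : Type*} [Group H] (Ψ : H →* Γ) (h : Γ) (s : H)
    (hc : ∀ x, h * Ψ x * h⁻¹ = Ψ (s * x * s⁻¹)) :
    ∃ f, h = Ψ s * f ∧ ∀ x, Commute f (Ψ x) := by
  refine ⟨(Ψ s)⁻¹ * h, by rw [mul_inv_cancel_left], fun x => ?_⟩
  have := hc x
  rw [map_mul, map_mul, map_inv, mul_inv_eq_iff_eq_mul] at this
  show (Ψ s)⁻¹ * h * Ψ x = Ψ x * ((Ψ s)⁻¹ * h)
  rw [mul_assoc, this]; group

theorem conj_ext {H : Type*} [Group H] {n : ℕ} [NeZero n] (Ψ : Alt n →* H) (h : H) (s : MulAut (Alt n))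
    (hc : ∀ i, h * Ψ (z i) * h⁻¹ = Ψ (s (z i))) (x : Alt n) : h * Ψ x * h⁻¹ = Ψ (s x) :=
  DFunLike.congr_fun (hom_ext_z (f := (MulAut.conj h).toMonoidHom.comp Ψ)
    (g := Ψ.comp s.toMonoidHom) fun i => hc i) x

end CfsgLib.Presentations.AltSeven
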