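import Mathlib
import Cfsg.Agent.Lib.Presentations.AltSeven.Window
import Cfsg.Agent.Lib.Presentations.AltSeven.Free

/-!
The permutations satisfying the seven relations.
-/

set_option autoImplicit false
set_option linter.unusedSectionVars false

namespace CfsgLib.Presentations.AltSeven

open Equiv Equiv.Perm
open Carmichael

/-- A window size for a cycle of length `m`. -/
theorem exists_window (m : ℕ) (hm : 3 ≤ m) :
    ∃ p, p.Prime ∧ Odd p ∧ p ≤ m ∧ m < 2 * p ∧ (5 ≤ m → Odd m → 5 ≤ p) := by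
  rcases Nat.lt_or_ge m 4 with h | h
  · obtain rfl : m = 3 := by omega
    exact ⟨3, Nat.prime_three, by decide, le_rfl, by norm_num, fun h => absurd h (by norm_num)⟩
  rcases eq_or_ne m 5 with rfl | h5
  · exact ⟨5, Nat.prime_five, by decide, le_rfl, by norm_num, fun _ _ => le_rfl⟩
  obtain ⟨p, hp, hlo, hhi⟩ := Nat.exists_prime_lt_and_le_two_mul (m / 2) (by omega)
  refine ⟨p, hp, hp.odd_of_ne_two (by omega), by omega, by omega, fun _ hodd => ?_⟩
  rw [Nat.odd_iff] at hodd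
  by_contra hlt
  have : p = 4 := by omega
  subst this
  exact absurd hp (by norm_num)

section Words

variable {G : Type*} [Group G]

/-- Words in the first two letters. -/
def sub2 : FreeGroup (Fin 2) →* FreeGroup (Fin 3) :=
  FreeGroup.lift ![FreeGroup.of 0, FreeGroup.of 1]

/-- Words in the square of the first letter and the second. -/
def sub2' : FreeGroup (Fin 2) →* FreeGroup (Fin 3) :=
  FreeGroup.lift ![FreeGroup.of 0 ^ 2, FreeGroup.of 1]

theorem lift_sub2 (f : Fin 3 → G) (w : FreeGroup (Fin 2)) :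
    FreeGroup.lift f (sub2 w) = FreeGroup.lift ![f 0, f 1] w :=
  DFunLike.congr_fun (FreeGroup.ext_hom ((FreeGroup.lift f).comp sub2) (FreeGroup.lift ![f 0, f 1])
    fun i => by fin_cases i <;> simp [sub2]) w

theorem lift_sub2' (f : Fin 3 → G) (w : FreeGroup (Fin 2)) :
    FreeGroup.lift f (sub2' w) = FreeGroup.lift ![f 0 ^ 2, f 1] w :=
  DFunLike.congr_fun (FreeGroup.ext_hom ((FreeGroup.lift f).comp sub2') (FreeGroup.lift ![f 0 ^ 2, f 1])
    fun i => by fin_cases i <;> simp [sub2']) w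

end Words

section Window

variable {p : ℕ} [Fact p.Prime]

theorem exists_mult (hp : Odd p) {r : ℕ} (hr0 : (r : ZMod p) ≠ 0) (hr1 : (r : ZMod p) ≠ 1)
    (hcov : ∀ x : ZMod p, x ≠ 0 → ∃ k : ℕ, (r : ZMod p) ^ k = x) :
    ∃ b : Alt p, b * aσ hp * b⁻¹ = aσ hp ^ r ∧ b * z 0 * b⁻¹ = (z 0)⁻¹ := by
  have h3 : 3 ≤ p := by
    have := (Fact.out : p.Prime).two_le
    rw [Nat.odd_iff] at hp
    omega
  refine ⟨⟨τ * onR (Equiv.mulLeft₀ (r : ZMod p) hr0), Equiv.Perm.mem_alternatingGroup.2 (by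
    rw [map_mul, sign_τ, sign_onR, sign_mulLeft h3 hr0 hr1 hcov]; rfl)⟩, Subtype.ext ?_, ?_⟩
  · rw [Subgroup.coe_mul, Subgroup.coe_mul, InvMemClass.coe_inv, SubmonoidClass.coe_pow]
    show τ * onR (Equiv.mulLeft₀ (r : ZMod p) hr0) * tr 1 *
      (τ * onR (Equiv.mulLeft₀ (r : ZMod p) hr0))⁻¹ = tr (1 : ZMod p) ^ r
    rw [mul_inv_eq_iff_eq_mul, tr_pow]
    ext (x | x)
    · fin_cases x <;> simp
    · simp only [Perm.mul_apply, tr_inr, onR_inr, τ_inr, Equiv.mulLeft₀_apply, nsmul_one, mul_add,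
        mul_one]
  · rw [← cj_coe]
    refine cj_z_inv ?_ ?_ ?_ <;> simp

end Window

section Cycle

variable {m : ℕ} [NeZero m]

theorem cj_tr_z (i : ZMod m) : cj (tr 1) (z i) = z (i + 1) := cj_z (tr_inl _ _) (tr_inl _ _) (tr_inr _ _)

theorem cj_τtr_z (i : ZMod m) : cj (τ * tr 1) (z i) = (z (i + 1))⁻¹ :=
  cj_z_inv (by simp) (by simp) (by simp)

/-- The shift, for an odd number of points. -/
noncomputable def σA (hm : Odd m) : Alt m :=
  ⟨tr 1, Equiv.Perm.mem_alternatingGroup.2 (sign_tr_odd hm 1)⟩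

theorem sign_tr_even (hm : Even m) : sign (tr (1 : ZMod m)) = -1 := by
  rw [sign_tr_one]
  exact (Nat.Even.sub_odd (NeZero.pos m) hm odd_one).neg_one_pow

/-- The shift composed with the swap, for an even number of points. -/
noncomputable def σA' (hm : Even m) : Alt m :=
  ⟨τ * tr 1, Equiv.Perm.mem_alternatingGroup.2 (by rw [map_mul, sign_τ, sign_tr_even hm]; rfl)⟩

theorem τtr_pow (k : ℕ) : (τ * tr (1 : ZMod m)) ^ k = τ ^ k * tr 1 ^ k :=
  Commute.mul_pow (τ_comm_onR _) k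

theorem τtr_pow_m (hm : Even m) : (τ * tr (1 : ZMod m)) ^ m = 1 := by
  rw [τtr_pow, tr_pow_m, mul_one]
  exact orderOf_dvd_iff_pow_eq_one.1
    ((orderOf_dvd_of_pow_eq_one (show τ ^ 2 = 1 by rw [pow_two, τ_mul_τ])).trans hm.two_dvd)

variable {p : ℕ} [Fact p.Prime] (hpm : p ≤ m)

theorem val_succ {i : ZMod p} (hi : i ≠ -1) :
    (((i + 1).val : ℕ) : ZMod m) = (i.val : ZMod m) + 1 := by
  have hlt := ZMod.val_lt i
  have : i.val ≠ p - 1 := fun e => hi (by
    rw [← ZMod.natCast_zmod_val i, e, Nat.cast_sub (Fact.out : p.Prime).one_le]; simp)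
  have e : (i + 1).val = i.val + 1 := by
    rw [← ZMod.val_natCast_of_lt (show i.val + 1 < p by omega), Nat.cast_succ, ZMod.natCast_zmod_val]
  rw [e, Nat.cast_succ]

theorem cj_τ_w (hp : Odd p) : cj (τ : Perm (Pts p)) (wσ hp) = wσ hp :=
  Subtype.ext (by rw [cj_val]; exact wσ_comm_τ hp)

theorem cj_τtr_w (hp : Odd p) :
    cj (τ * tr 1 : Perm (Pts p)) (wσ hp) = aσ hp * wσ hp * (aσ hp)⁻¹ := by
  refine Subtype.ext ?_
  rw [cj_val, Subgroup.coe_mul, Subgroup.coe_mul, InvMemClass.coe_inv,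
    show (τ : Perm (Pts p)) * tr 1 = tr 1 * τ from τ_comm_onR _, mul_inv_rev]
  show tr 1 * τ * (wσ hp : Perm (Pts p)) * (τ⁻¹ * (tr 1)⁻¹) = tr 1 * (wσ hp : Perm (Pts p)) * (tr 1)⁻¹
  rw [← mul_assoc, mul_assoc (tr 1) τ, mul_assoc (tr 1) _ τ⁻¹, wσ_comm_τ]

/-- The shift moves the window as the translation does. -/
theorem step_w (hp : Odd p) : cj (tr 1) (embHom hpm (wσ hp)) = embHom hpm (aσ hp * wσ hp * (aσ hp)⁻¹) := by
  rw [← cj_coe (aσ hp) (wσ hp)]
  exact eq_of_fix ((cj (tr 1)).toMonoidHom.comp (embHom hpm))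
    ((embHom hpm).comp (cj (tr 1)).toMonoidHom) (-1) (fun i hi => by
      simp only [MonoidHom.comp_apply, MulEquiv.coe_toMonoidHom, embHom_z, cj_tr_z, val_succ hi])
    _ (wσ_fix hp)

theorem step_w' (hp : Odd p) :
    cj (τ * tr 1) (embHom hpm (wσ hp)) = embHom hpm (aσ hp * wσ hp * (aσ hp)⁻¹) := by
  have h := eq_of_fix ((cj (τ * tr (1 : ZMod m))).toMonoidHom.comp (embHom hpm))
    ((embHom hpm).comp (cj (τ * tr (1 : ZMod p))).toMonoidHom) (-1) (fun i hi => by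
      simp only [MonoidHom.comp_apply, MulEquiv.coe_toMonoidHom, embHom_z, cj_τtr_z, map_inv,
        val_succ hi])
    (wσ hp) (wσ_fix hp)
  simp only [MonoidHom.comp_apply, MulEquiv.coe_toMonoidHom] at h
  rw [h, cj_τtr_w hp]

/-- What is left of the shift outside the window. -/
noncomputable def vσ (hp : Odd p) (hm : Odd m) : Alt m := (embHom hpm (aσ hp))⁻¹ * σA hm

theorem vσ_z (hp : Odd p) (hm : Odd m) {i : ZMod p} (hi : i ≠ -1) :
    vσ hpm hp hm * embHom hpm (z i) * (vσ hpm hp hm)⁻¹ = embHom hpm (z i) := by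
  have h : σA hm * embHom hpm (z i) * (σA hm)⁻¹
      = embHom hpm (aσ hp) * embHom hpm (z i) * (embHom hpm (aσ hp))⁻¹ := by
    rw [← map_inv, ← map_mul, ← map_mul, aσ_conj, embHom_z, embHom_z, ← cj_coe, val_succ hi]
    exact cj_tr_z _
  rw [vσ, show (embHom hpm (aσ hp))⁻¹ * σA hm * embHom hpm (z i) * ((embHom hpm (aσ hp))⁻¹ * σA hm)⁻¹
    = (embHom hpm (aσ hp))⁻¹ * (σA hm * embHom hpm (z i) * (σA hm)⁻¹) * embHom hpm (aσ hp) by group, h]
  group

theorem vσ_comm_w (hp : Odd p) (hm : Odd m) :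
    Commute (embHom hpm (wσ hp)) (vσ hpm hp hm) := by
  have h := eq_of_fix ((MulAut.conj (vσ hpm hp hm)).toMonoidHom.comp (embHom hpm)) (embHom hpm) (-1)
    (fun i hi => by
      simp only [MonoidHom.comp_apply, MulEquiv.coe_toMonoidHom, MulAut.conj_apply]
      exact vσ_z hpm hp hm hi) _ (wσ_fix hp)
  simp only [MonoidHom.comp_apply, MulEquiv.coe_toMonoidHom, MulAut.conj_apply,
    mul_inv_eq_iff_eq_mul] at h
  exact h.symm

theorem embHom_aσ_inr (hp : Odd p) {k : ℕ} (hk : k + 1 < p) :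
    (embHom hpm (aσ hp) : Perm (Pts m)) (Sum.inr (k : ZMod m)) = Sum.inr ((k + 1 : ℕ) : ZMod m) := by
  have e : (Sum.inr (k : ZMod m) : Pts m) = emb hpm (Sum.inr (k : ZMod p)) := by
    rw [emb_inr, ZMod.val_natCast_of_lt (by omega)]
  rw [e, embHom_apply, aσ]
  show emb hpm (tr 1 (Sum.inr (k : ZMod p))) = _
  rw [tr_inr, ← Nat.cast_succ, emb_inr, ZMod.val_natCast_of_lt hk]

theorem vσ_pow (hp : Odd p) (hm : Odd m) : vσ hpm hp hm ^ (m - p + 1) = 1 := by
  set A : Perm (Pts m) := (embHom hpm (aσ hp) : Perm (Pts m)) with hA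
  set q : Perm (Pts m) := (vσ hpm hp hm : Perm (Pts m)) with hq
  have hp1 := (Fact.out : p.Prime).one_lt
  have hAlast : A (Sum.inr ((p - 1 : ℕ) : ZMod m)) = Sum.inr 0 := by
    have e : (Sum.inr ((p - 1 : ℕ) : ZMod m) : Pts m) = emb hpm (Sum.inr ((p - 1 : ℕ) : ZMod p)) := by
      rw [emb_inr, ZMod.val_natCast_of_lt (by omega)]
    rw [hA, e, embHom_apply, aσ]
    show emb hpm (tr 1 (Sum.inr ((p - 1 : ℕ) : ZMod p))) = _
    rw [tr_inr, Nat.cast_sub hp1.le, Nat.cast_one, ZMod.natCast_self, zero_sub, neg_add_cancel,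
      emb_inr, ZMod.val_zero, Nat.cast_zero]
  have hqA : ∀ x, A (q x) = tr 1 x := fun x => by
    rw [hA, hq, vσ, Subgroup.coe_mul, InvMemClass.coe_inv, Perm.mul_apply]
    exact Equiv.apply_symm_apply _ _
  have hAinj := A.injective
  have hlow : ∀ k : ℕ, k + 1 < p → q (Sum.inr (k : ZMod m)) = Sum.inr (k : ZMod m) := fun k hk =>
    hAinj (by rw [hqA, tr_inr, hA, embHom_aσ_inr hpm hp hk, Nat.cast_succ])
  have hmid : ∀ k : ℕ, p ≤ k + 1 → k + 1 < m →
      q (Sum.inr (k : ZMod m)) = Sum.inr ((k + 1 : ℕ) : ZMod m) := fun k h1 h2 =>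
    hAinj (by rw [hqA, tr_inr, hA, embHom_apply_ge hpm _ h2 h1, Nat.cast_succ])
  have htop : q (Sum.inr ((m - 1 : ℕ) : ZMod m)) = Sum.inr ((p - 1 : ℕ) : ZMod m) :=
    hAinj (by rw [hqA, tr_inr, hAlast, Nat.cast_sub (NeZero.pos m), ZMod.natCast_self]; simp)
  have horb : ∀ j, j ≤ m - p →
      (q ^ j) (Sum.inr ((p - 1 : ℕ) : ZMod m)) = Sum.inr ((p - 1 + j : ℕ) : ZMod m) := by
    intro j
    induction j with
    | zero => intro _; rfl
    | succ j ih => intro hj; rw [pow_succ', Perm.mul_apply, ih (by omega), hmid _ (by omega) (by omega)]; rfl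
  refine Subtype.ext ?_
  rw [SubmonoidClass.coe_pow, OneMemClass.coe_one]
  refine pow_eq_one_of_orbit q (Sum.inr ((p - 1 : ℕ) : ZMod m)) (fun x hx => ?_) ?_
  · rcases x with x | i
    · exfalso
      refine hx (hAinj ?_)
      rw [hqA, tr_inl, hA, ← emb_inl hpm x, embHom_apply]
      rfl
    · rw [← ZMod.natCast_zmod_val i] at hx ⊢
      have := ZMod.val_lt i
      rcases Nat.lt_or_ge (i.val + 1) p with h | h
      · exact absurd (hlow _ h) hx
      · exact ⟨i.val + 1 - p, by rw [horb _ (by omega), show p - 1 + (i.val + 1 - p) = i.val by omega]⟩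
  · rw [pow_succ', Perm.mul_apply, horb _ le_rfl, show p - 1 + (m - p) = m - 1 by omega, htop]

end Cycle

section Orbits

variable {m : ℕ} [NeZero m]

theorem z_apply (i : ZMod m) :
    (z i : Perm (Pts m)) (Sum.inl 0) = Sum.inl 1 ∧ (z i : Perm (Pts m)) (Sum.inl 1) = Sum.inr i ∧
    (z i : Perm (Pts m)) (Sum.inr i) = Sum.inl 0 ∧
      ∀ j, j ≠ i → (z i : Perm (Pts m)) (Sum.inr j) = Sum.inr j := by
  obtain ⟨a, b, c, d⟩ := cyc_apply (c_ne (m := m)) (i := Sum.inr i) ⟨by simp, by simp⟩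
  rw [z_val]
  exact ⟨a, b, c, fun j hj => d _ (by simp) (by simp) (by simp [hj])⟩

theorem orbit_inr (q : Perm (Pts m))
    (hq : ∀ k : ℕ, k + 1 < m → q (Sum.inr (k : ZMod m)) = Sum.inr ((k + 1 : ℕ) : ZMod m)) :
    ∀ k : ℕ, k < m → (q ^ k) (Sum.inr 0) = Sum.inr (k : ZMod m) := by
  intro k
  induction k with
  | zero => intro _; simp
  | succ k ih => intro hk; rw [pow_succ', Perm.mul_apply, ih (by omega), hq _ hk]

theorem succ_ne_zero' {k : ℕ} (hk : k + 1 < m) : ((k : ZMod m) + 1) ≠ 0 := fun h => by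
  have : ((k + 1 : ℕ) : ZMod m) = 0 := by push_cast; exact h
  rw [ZMod.natCast_eq_zero_iff] at this
  have := Nat.le_of_dvd (by omega) this
  omega

theorem last_succ : ((m - 1 : ℕ) : ZMod m) + 1 = 0 := by
  rw [Nat.cast_sub (NeZero.pos m), ZMod.natCast_self]; simp

/-- The orbit of the long cycle. -/
theorem long_orbit : let q : Perm (Pts m) := ((z (0 : ZMod m) : Alt m) : Perm (Pts m)) * tr 1
    (∀ k : ℕ, k < m → (q ^ k) (Sum.inr 0) = Sum.inr (k : ZMod m)) ∧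
    (q ^ m) (Sum.inr 0) = Sum.inl 0 ∧ (q ^ (m + 1)) (Sum.inr 0) = Sum.inl 1 ∧
    (q ^ (m + 2)) (Sum.inr 0) = Sum.inr 0 ∧ q (Sum.inl 0) = Sum.inl 1 := by
  intro q
  obtain ⟨e0, e1, e2, e3⟩ := z_apply (0 : ZMod m)
  have hqa : ∀ x, q x = ((z (0 : ZMod m) : Alt m) : Perm (Pts m)) (tr 1 x) := fun x => rfl
  have ho := orbit_inr q fun k hk => by
    rw [hqa, tr_inr, e3 _ (succ_ne_zero' hk), Nat.cast_succ]
  have hm' : (q ^ m) (Sum.inr 0) = Sum.inl 0 := by
    rw [show q ^ m = q * q ^ (m - 1) by rw [← pow_succ', Nat.sub_add_cancel (NeZero.pos m)],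
      Perm.mul_apply,
      ho _ (by have := NeZero.pos m; omega)]
    rw [hqa, tr_inr, last_succ, e2]
  have hm1 : (q ^ (m + 1)) (Sum.inr 0) = Sum.inl 1 := by
    rw [pow_succ', Perm.mul_apply, hm']; exact e0
  refine ⟨ho, hm', hm1, ?_, e0⟩
  rw [pow_succ', Perm.mul_apply, hm1]; exact e1

theorem long_cov (x : Pts m) :
    ∃ k : ℕ, ((((z (0 : ZMod m) : Alt m) : Perm (Pts m)) * tr 1) ^ k : Perm (Pts m)) (Sum.inr 0) = x := by
  obtain ⟨ho, h0, h1, -, -⟩ := long_orbit (m := m)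
  rcases x with x | i
  · fin_cases x
    · exact ⟨m, h0⟩
    · exact ⟨m + 1, h1⟩
  · exact ⟨i.val, by rw [ho _ (ZMod.val_lt i), ZMod.natCast_zmod_val]⟩

theorem long_pow : (((z (0 : ZMod m) : Alt m) : Perm (Pts m)) * tr 1) ^ (m + 2) = 1 :=
  pow_eq_one_of_orbit _ _ (fun x _ => long_cov x) (long_orbit (m := m)).2.2.2.1

theorem zτtr_pow : (((z (0 : ZMod m) : Alt m) : Perm (Pts m)) * (τ * tr 1)) ^ (m + 1) = 1 := by
  obtain ⟨e0, e1, e2, e3⟩ := z_apply (0 : ZMod m)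
  set q := ((z (0 : ZMod m) : Alt m) : Perm (Pts m)) * (τ * tr 1) with hq
  have hqa : ∀ x, q x = ((z (0 : ZMod m) : Alt m) : Perm (Pts m)) (τ (tr 1 x)) := fun x => rfl
  have ho := orbit_inr q fun k hk => by
    rw [hqa, tr_inr, τ_inr, e3 _ (succ_ne_zero' hk), Nat.cast_succ]
  have hm' : (q ^ m) (Sum.inr 0) = Sum.inl 0 := by
    rw [show q ^ m = q * q ^ (m - 1) by rw [← pow_succ', Nat.sub_add_cancel (NeZero.pos m)],
      Perm.mul_apply,
      ho _ (by have := NeZero.pos m; omega), hqa, tr_inr, τ_inr, last_succ, e2]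
  refine pow_eq_one_of_orbit q (Sum.inr 0) (fun x hx => ?_) ?_
  · rcases x with x | i
    · fin_cases x
      · exact ⟨m, hm'⟩
      · exact absurd (by rw [hqa]; simpa using e0) hx
    · exact ⟨i.val, by rw [ho _ (ZMod.val_lt i), ZMod.natCast_zmod_val]⟩
  · rw [pow_succ', Perm.mul_apply, hm', hqa, tr_inl, τ_inl_zero, e1]

theorem τztr_pow : ((τ : Perm (Pts m)) * (((z (0 : ZMod m) : Alt m) : Perm (Pts m)) * tr 1)) ^ (m + 1) = 1 := by
  obtain ⟨e0, e1, e2, e3⟩ := z_apply (0 : ZMod m)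
  set q := (τ : Perm (Pts m)) * (((z (0 : ZMod m) : Alt m) : Perm (Pts m)) * tr 1) with hq
  have hqa : ∀ x, q x = τ (((z (0 : ZMod m) : Alt m) : Perm (Pts m)) (tr 1 x)) := fun x => rfl
  have ho := orbit_inr q fun k hk => by
    rw [hqa, tr_inr, e3 _ (succ_ne_zero' hk), τ_inr, Nat.cast_succ]
  have hm' : (q ^ m) (Sum.inr 0) = Sum.inl 1 := by
    rw [show q ^ m = q * q ^ (m - 1) by rw [← pow_succ', Nat.sub_add_cancel (NeZero.pos m)],
      Perm.mul_apply,
      ho _ (by have := NeZero.pos m; omega), hqa, tr_inr, last_succ, e2, τ_inl_zero]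
  refine pow_eq_one_of_orbit q (Sum.inr 0) (fun x hx => ?_) ?_
  · rcases x with x | i
    · fin_cases x
      · exact absurd (by rw [hqa]; simp [e0]) hx
      · exact ⟨m, hm'⟩
    · exact ⟨i.val, by rw [ho _ (ZMod.val_lt i), ZMod.natCast_zmod_val]⟩
  · rw [pow_succ', Perm.mul_apply, hm', hqa, tr_inl, e1, τ_inr]

end Orbits

end CfsgLib.Presentations.AltSeven
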