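import Mathlib
import Cfsg.Agent.Lib.Presentations.AltSeven.Model

/-!
The four relations on the window, without and with the transposition.
-/

set_option autoImplicit false
set_option linter.unusedSectionVars false

namespace CfsgLib.Presentations.AltSeven

open Equiv Equiv.Perm
open Carmichael

theorem lift_W {H Γ : Type*} [Group H] [Group Γ] {g : Fin 2 → H} {W : H → FreeGroup (Fin 2)}
    (hW : ∀ σ, FreeGroup.lift g (W σ) = σ) (Φ : H →* Γ) {A Z : Γ} (h0 : Φ (g 0) = A)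
    (h1 : Φ (g 1) = Z) (x : H) : FreeGroup.lift ![A, Z] (W x) = Φ x := by
  conv_rhs => rw [← hW x]
  rw [lift_natural]
  congr 2
  funext i
  fin_cases i
  · exact h0.symm
  · exact h1.symm

/-- The fixed choices for a window. -/
theorem exists_setup {p : ℕ} [Fact p.Prime] (hp : Odd p) :
    ∃ (r : ℕ) (b : Alt p) (W : Alt p → FreeGroup (Fin 2)),
      Even r ∧ (r : ZMod p) ≠ 1 ∧ (∀ x : ZMod p, x ≠ 0 → ∃ k : ℕ, (r : ZMod p) ^ k = x) ∧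
      b * aσ hp * b⁻¹ = aσ hp ^ r ∧ b * z 0 * b⁻¹ = (z 0)⁻¹ ∧
      ∀ σ, FreeGroup.lift ![aσ hp, z (0 : ZMod p)] (W σ) = σ := by
  have h3 : 3 ≤ p := by
    have := (Fact.out : p.Prime).two_le
    rw [Nat.odd_iff] at hp
    omega
  obtain ⟨r, hr, hr1, hr0, hcov⟩ := exists_root h3
  obtain ⟨b, hb, hbz⟩ := exists_mult hp hr0 hr1 hcov
  obtain ⟨W, hW⟩ := exists_words _ (closure_aσ_z hp)
  exact ⟨r, b, W, hr, hr1, hcov, hb, hbz, hW⟩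

section

variable {Γ : Type*} [Group Γ] {p : ℕ} [Fact p.Prime] (hp : Odd p)
  {W : Alt p → FreeGroup (Fin 2)} (hW : ∀ σ, FreeGroup.lift ![aσ hp, z (0 : ZMod p)] (W σ) = σ)
  {r : ℕ} (hre : Even r) (hr1 : (r : ZMod p) ≠ 1)
  (hcov : ∀ x : ZMod p, x ≠ 0 → ∃ k : ℕ, (r : ZMod p) ^ k = x) {b : Alt p}
  (hb : b * aσ hp * b⁻¹ = aσ hp ^ r)

include hW hre hr1 hcov hb

theorem prime_four {A Z : Γ} (R1 : A ^ p = Z ^ 3)
    (R2 : FreeGroup.lift ![A, Z] (W b) * A * (FreeGroup.lift ![A, Z] (W b))⁻¹ = A ^ r)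
    (R3 : FreeGroup.lift ![A, Z] (W b) * Z * (FreeGroup.lift ![A, Z] (W b))⁻¹ = Z⁻¹)
    (R4 : (Z * (A * Z * A⁻¹)) ^ 2 = 1) :
    ∃ Φ : Alt p →* Γ, Φ (aσ hp) = A ∧ Φ (z 0) = Z ∧ ∀ σ, FreeGroup.lift ![A, Z] (W σ) = Φ σ := by
  set B := FreeGroup.lift ![A, Z] (W b) with hB
  have hcA : Commute (A ^ p) A := Commute.pow_self A p
  have hcZ : Commute (A ^ p) Z := R1 ▸ Commute.pow_self Z 3
  have hcB : Commute (A ^ p) B := commute_lift (fun i => by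
    fin_cases i
    · exact hcA
    · exact hcZ) _
  have hfix : B * A ^ p * B⁻¹ = A ^ p := by rw [← hcB.eq, mul_inv_cancel_right]
  have h2 : (A ^ p) ^ r = A ^ p := by
    conv_rhs => rw [← hfix, ← conj_pow, R2]
    rw [← pow_mul A, ← pow_mul A, mul_comm]
  have hinv : A ^ p = (A ^ p)⁻¹ := by
    conv_lhs => rw [← hfix, R1, ← conj_pow, R3, inv_pow, ← R1]
  have hc : A ^ p = 1 := central_eq_one (M := 1) hre h2 (by
    rw [pow_one, pow_two]; exact eq_inv_iff_mul_eq_one.1 hinv)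
  exact prime_hom hp hW (C := B) (δ := -1) (Or.inr rfl) hc (by rw [← R1, hc]) R4 R2
    (by rw [R3, zpow_neg_one]) hr1 hcov hb R2

theorem prime_four' (hbz : b * z 0 * b⁻¹ = (z 0)⁻¹) {A₀ Z : Γ} (R1 : (A₀ ^ 2) ^ p = Z ^ 3)
    (R2 : FreeGroup.lift ![A₀ ^ 2, Z] (W b) * A₀ ^ 2 * (FreeGroup.lift ![A₀ ^ 2, Z] (W b))⁻¹
      = (A₀ ^ 2) ^ r)
    (R3 : FreeGroup.lift ![A₀ ^ 2, Z] (W b) * A₀ ^ p * Z
      * (FreeGroup.lift ![A₀ ^ 2, Z] (W b) * A₀ ^ p)⁻¹ = Z)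
    (R4 : (Z * (A₀ ^ 2 * Z * (A₀ ^ 2)⁻¹)) ^ 2 = 1) :
    ∃ Φ : Alt p →* Γ, Φ (aσ hp) = A₀ ^ 2 ∧ Φ (z 0) = Z ∧
      (∀ σ, FreeGroup.lift ![A₀ ^ 2, Z] (W σ) = Φ σ) ∧ A₀ ^ p * A₀ ^ p = 1 ∧
      ∀ x, A₀ ^ p * Φ x * (A₀ ^ p)⁻¹ = Φ (cj τ x) := by
  set A := A₀ ^ 2 with hA
  set T := A₀ ^ p with hT
  set B := FreeGroup.lift ![A, Z] (W b) with hB
  have hTA : Commute T A := (Commute.refl A₀).pow_pow p 2
  have hcA : Commute (A ^ p) A := Commute.pow_self A p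
  have hcZ : Commute (A ^ p) Z := R1 ▸ Commute.pow_self Z 3
  have hcB : Commute (A ^ p) B := commute_lift (fun i => by
    fin_cases i
    · exact hcA
    · exact hcZ) _
  have hfix : B * A ^ p * B⁻¹ = A ^ p := by rw [← hcB.eq, mul_inv_cancel_right]
  have h2 : (A ^ p) ^ r = A ^ p := by
    conv_rhs => rw [← hfix, ← conj_pow, R2]
    rw [← pow_mul A, ← pow_mul A, mul_comm]
  have h8 : (A ^ p) ^ 8 = 1 := pow_eight_eq_one R1.symm (by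
    rw [conj_pow, ← R1, ← hcA.eq, mul_inv_cancel_right]) R4
  have hc : A ^ p = 1 := central_eq_one (M := 3) hre h2 (by norm_num [h8])
  obtain ⟨Φ, hΦa, hΦz, hΦW⟩ := prime_hom hp hW (C := B * T) (δ := 1) (Or.inl rfl) hc
    (by rw [← R1, hc]) R4 (by
      rw [show B * T * A * (B * T)⁻¹ = B * (T * A * T⁻¹) * B⁻¹ by group, hTA.eq,
        mul_inv_cancel_right, R2]) (by rw [R3, zpow_one]) hr1 hcov hb R2
  refine ⟨Φ, hΦa, hΦz, hΦW, ?_, ?_⟩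
  · rw [← pow_two, ← hc, hT, hA, ← pow_mul, ← pow_mul, mul_comm]
  have hTz : T * Φ (z 0) * T⁻¹ = Φ ((z 0)⁻¹) := by
    have h := R3
    rw [← hΦz, show B = Φ b from hΦW b] at h
    rw [show (z (0 : ZMod p))⁻¹ = b⁻¹ * z 0 * b by
        have e := congrArg (·⁻¹) hbz
        simp only [mul_inv_rev, inv_inv] at e
        calc (z (0 : ZMod p))⁻¹ = b⁻¹ * (b * ((z (0 : ZMod p))⁻¹ * b⁻¹)) * b := by group
          _ = _ := by rw [e],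
      map_mul, map_mul, map_inv]
    calc T * Φ (z 0) * T⁻¹ = (Φ b)⁻¹ * (Φ b * T * Φ (z 0) * (Φ b * T)⁻¹) * Φ b := by group
      _ = _ := by rw [h]
  intro x
  refine conj_ext Φ T (cj τ) (fun i => ?_) x
  have hi : z i = aσ hp ^ i.val * z 0 * (aσ hp ^ i.val)⁻¹ := by
    rw [aσ_pow_conj, zero_add, ZMod.natCast_zmod_val]
  rw [cj_τ_z, hi, map_mul, map_mul, map_inv, map_pow, hΦa,
    show T * (A ^ i.val * Φ (z 0) * (A ^ i.val)⁻¹) * T⁻¹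
      = (T * A ^ i.val) * Φ (z 0) * (T * A ^ i.val)⁻¹ by group,
    (hTA.pow_right _).eq, show A ^ i.val * T * Φ (z 0) * (A ^ i.val * T)⁻¹
      = A ^ i.val * (T * Φ (z 0) * T⁻¹) * (A ^ i.val)⁻¹ by group, hTz, map_inv, map_inv, map_mul,
    map_mul, map_inv, map_pow, hΦa]
  group

end

theorem wσ'_conj {p : ℕ} [Fact p.Prime] (hp : Odd p) {i : ZMod p} (h1 : i ≠ -1) (h2 : i ≠ -2) :
    aσ hp * wσ hp * (aσ hp)⁻¹ * z (i + 1) * (aσ hp * wσ hp * (aσ hp)⁻¹)⁻¹ = (z (i + 1 + 1))⁻¹ := by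
  rw [← aσ_conj hp i, show aσ hp * wσ hp * (aσ hp)⁻¹ * (aσ hp * z i * (aσ hp)⁻¹) *
    (aσ hp * wσ hp * (aσ hp)⁻¹)⁻¹ = aσ hp * (wσ hp * z i * (wσ hp)⁻¹) * (aσ hp)⁻¹ by group,
    wσ_conj hp h1 h2, ← aσ_conj hp (i + 1)]
  group

theorem embHom_z_zero {m p : ℕ} [NeZero m] [NeZero p] (hpm : p ≤ m) :
    embHom hpm (z (0 : ZMod p)) = z 0 := by
  rw [embHom_z, ZMod.val_zero, Nat.cast_zero]

theorem embHom_z_one {m p : ℕ} [NeZero m] [Fact p.Prime] (hpm : p ≤ m) :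
    embHom hpm (z (1 : ZMod p)) = z 1 := by
  rw [embHom_z, ZMod.val_one, Nat.cast_one]

end CfsgLib.Presentations.AltSeven
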