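import Mathlib
import Cfsg.Agent.Lib.Presentations.AltSeven.Setup
import Cfsg.Agent.Lib.Presentations.PresOn

/-!
Seven relations on three generators, or on two, for the alternating groups.
-/

set_option autoImplicit false
set_option linter.unusedSectionVars false

namespace CfsgLib.Presentations.AltSeven

open Equiv Equiv.Perm
open Carmichael

/-- The two shapes of a presentation with seven relations. -/
def Seven (G : Type) [Group G] : Prop := BoundedOn G (Fin 3) 7 ∧ BoundedOn G (Fin 2) 7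

theorem seven_of {G : Type} [Group G] {g : Fin 3 → G} (h : PresentedBy g 7)
    (hgen : Subgroup.closure (Set.range ![g 1, g 2]) = ⊤) : Seven G := by
  obtain ⟨W, hW⟩ := exists_words _ hgen
  refine ⟨h.boundedOn, h.subst ![FreeGroup.of 1, FreeGroup.of 2]
    ![W (g 0), FreeGroup.of 0, FreeGroup.of 1] (fun i => by fin_cases i <;> simp) fun j => ?_⟩
  have e : (fun i => FreeGroup.lift g ((![FreeGroup.of 1, FreeGroup.of 2] : Fin 2 → FreeGroup (Fin 3)) i))
      = ![g 1, g 2] := funext fun i => by fin_cases i <;> simp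
  rw [e]
  fin_cases j <;> simp [hW]

theorem card_alt_two {m : ℕ} [NeZero m] : 2 * Nat.card (Alt m) = Nat.card (Perm (Pts m)) :=
  have : Nontrivial (Pts m) := ⟨⟨Sum.inl 0, Sum.inl 1, c_ne⟩⟩
  two_mul_nat_card_alternatingGroup

theorem closure_z_σ {m : ℕ} [NeZero m] (s : Alt m)
    (hs : ∀ i, cj (s : Perm (Pts m)) (z i) = z (i + 1) ∨ cj (s : Perm (Pts m)) (z i) = (z (i + 1))⁻¹) :
    Subgroup.closure (Set.range ![z (0 : ZMod m), s]) = ⊤ := by
  refine top_of_shift _ (Subgroup.subset_closure ⟨0, rfl⟩) (s : Perm (Pts m)) (fun x hx => ?_) hs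
  rw [cj_coe]
  have hmem : s ∈ Subgroup.closure (Set.range ![z (0 : ZMod m), s]) := Subgroup.subset_closure ⟨1, rfl⟩
  exact mul_mem (mul_mem hmem hx) (inv_mem hmem)

theorem closure_three {G : Type*} [Group G] {g : Fin 3 → G}
    (h : Subgroup.closure (Set.range ![g 1, g 2]) = ⊤) : Subgroup.closure (Set.range g) = ⊤ := by
  rw [eq_top_iff, ← h]
  exact Subgroup.closure_mono (by rintro _ ⟨i, rfl⟩; fin_cases i <;> simp)

/-- A surjection from the finite group when the generators are in the image. -/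
theorem surjective_of_mem {G Γ : Type*} [Group G] [Group Γ] (Ψ : G →* Γ) {κ : Type*} {f : κ → Γ}
    (hf : Subgroup.closure (Set.range f) = ⊤) (h : ∀ i, f i ∈ Ψ.range) : Function.Surjective Ψ := by
  rw [← MonoidHom.range_eq_top, eq_top_iff, ← hf, Subgroup.closure_le]
  rintro _ ⟨i, rfl⟩
  exact h i

variable {m : ℕ} [NeZero m] {p : ℕ} [Fact p.Prime]

theorem alt_even (hp : Odd p) (hpm : p ≤ m) (hlo : m < 2 * p) (hm : Even m) :
    Seven (Alt m) := by
  obtain ⟨r, b, W, hre, hr1, hcov, hb, hbz, hW⟩ := exists_setup hp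
  set w := wσ hp with hwdef
  set w' := aσ hp * w * (aσ hp)⁻¹ with hw'def
  set g : Fin 3 → Alt m := ![embHom hpm (aσ hp), z 0, σA' hm] with hg
  have hgen : Subgroup.closure (Set.range ![g 1, g 2]) = ⊤ :=
    closure_z_σ (σA' hm) fun i => Or.inr (cj_τtr_z i)
  refine seven_of (presentedBy_of_card g
    [(FreeGroup.of 0 ^ p, FreeGroup.of 1 ^ 3),
      (sub2 (W b) * FreeGroup.of 0 * (sub2 (W b))⁻¹, FreeGroup.of 0 ^ r),
      (sub2 (W b) * FreeGroup.of 1 * (sub2 (W b))⁻¹, (FreeGroup.of 1)⁻¹),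
      ((FreeGroup.of 1 * (FreeGroup.of 0 * FreeGroup.of 1 * (FreeGroup.of 0)⁻¹)) ^ 2, 1),
      (FreeGroup.of 2 * FreeGroup.of 1 * (FreeGroup.of 2)⁻¹,
        (FreeGroup.of 0 * FreeGroup.of 1 * (FreeGroup.of 0)⁻¹)⁻¹),
      (FreeGroup.of 2 * sub2 (W w) * (FreeGroup.of 2)⁻¹, sub2 (W w')),
      (FreeGroup.of 2 ^ m, (FreeGroup.of 1 * FreeGroup.of 2) ^ (m + 1))] le_rfl ?_
    (closure_three hgen) ?_) hgen
  · have hgW : ∀ x, FreeGroup.lift ![g 0, g 1] (W x) = embHom hpm x :=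
      lift_W hW _ rfl (embHom_z_zero hpm)
    simp only [List.forall_mem_cons, List.not_mem_nil, IsEmpty.forall_iff, implies_true, and_true,
      map_mul, map_inv, map_pow, map_one, FreeGroup.lift_apply_of, lift_sub2, hgW]
    have e1 : embHom hpm (aσ hp) * z 0 * (embHom hpm (aσ hp))⁻¹ = z 1 := by
      rw [← embHom_z_zero hpm, ← map_inv, ← map_mul, ← map_mul, aσ_conj, zero_add, embHom_z_one]
    refine ⟨?_, ?_, ?_, ?_, ?_, ?_, ?_⟩
    · show embHom hpm (aσ hp) ^ p = z 0 ^ 3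
      rw [← map_pow, aσ_pow, map_one, z_cube]
    · show embHom hpm b * embHom hpm (aσ hp) * (embHom hpm b)⁻¹ = embHom hpm (aσ hp) ^ r
      rw [← map_inv, ← map_mul, ← map_mul, ← map_pow, hb]
    · show embHom hpm b * z 0 * (embHom hpm b)⁻¹ = (z 0)⁻¹
      rw [← embHom_z_zero hpm, ← map_inv, ← map_mul, ← map_mul, hbz, map_inv]
    · show (z 0 * (embHom hpm (aσ hp) * z 0 * (embHom hpm (aσ hp))⁻¹)) ^ 2 = 1
      rw [e1, ← embHom_z_zero hpm, ← embHom_z_one hpm, ← map_mul, ← map_pow, z_pair zero_ne_one,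
        map_one]
    · show σA' hm * z 0 * (σA' hm)⁻¹ = (embHom hpm (aσ hp) * z 0 * (embHom hpm (aσ hp))⁻¹)⁻¹
      rw [e1, ← cj_coe]
      exact (cj_τtr_z 0).trans (by rw [zero_add])
    · show σA' hm * embHom hpm w * (σA' hm)⁻¹ = embHom hpm w'
      rw [← cj_coe]
      exact step_w' hpm hp
    · show σA' hm ^ m = (z 0 * σA' hm) ^ (m + 1)
      refine Subtype.ext ?_
      rw [SubmonoidClass.coe_pow, SubmonoidClass.coe_pow, Subgroup.coe_mul]
      show (τ * tr (1 : ZMod m)) ^ m = (((z (0 : ZMod m) : Alt m) : Perm (Pts m)) * (τ * tr 1)) ^ (m + 1)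
      rw [τtr_pow_m hm, zτtr_pow]
  · intro Γ _ f hE hf
    simp only [List.forall_mem_cons, List.not_mem_nil, IsEmpty.forall_iff, implies_true, and_true,
      map_mul, map_inv, map_pow, map_one, FreeGroup.lift_apply_of, lift_sub2] at hE
    obtain ⟨R1, R2, R3, R4, R5, R6, R7⟩ := hE
    set A := f 0
    set Z := f 1
    set h := f 2
    obtain ⟨Φ, hΦa, hΦz, hΦW⟩ := prime_four hp hW hre hr1 hcov hb R1 R2 R3 R4
    rw [hΦW, hΦW] at R6
    have h0 : h * Φ (z 0) * h⁻¹ = Φ (z 1) ^ (-1 : ℤ) := by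
      rw [hΦz, R5, zpow_neg_one, ← hΦa, ← hΦz, ← map_inv, ← map_mul, ← map_mul, aσ_conj, zero_add]
    have hh := window_step Φ (ε := -1) (δ := -1) (Or.inr rfl) h0 R6 (fun i h1 h2 => by
        rw [← map_inv, ← map_mul, ← map_mul, wσ_conj hp h1 h2, map_inv, zpow_neg_one])
      (fun i h1 h2 => by
        rw [← map_inv, ← map_mul, ← map_mul, hw'def, hwdef, wσ'_conj hp h1 h2, map_inv, zpow_neg_one])
    have hd : Commute (h ^ m) (Φ (z 0)) := by
      have e1 : Commute (h ^ m) h := Commute.pow_self h m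
      have e2 : Commute (h ^ m) (Z * h) := R7 ▸ Commute.pow_self _ _
      rw [hΦz, ← mul_inv_cancel_right Z h]
      exact e2.mul_right e1.inv_right
    obtain ⟨Ψ, hΨΦ, hΨh⟩ := period_hom hpm hlo Φ h (Or.inr rfl) hm.neg_one_pow hh hd
    have hΨZ : Ψ (z 0) = Z := by
      rw [← hΦz, ← hΨΦ, MonoidHom.comp_apply, embHom_z_zero]
    have hconj : ∀ x, h * Ψ x * h⁻¹ = Ψ (σA' hm * x * (σA' hm)⁻¹) := fun x => by
      rw [← cj_coe]
      refine conj_ext Ψ h (cj _) (fun i => ?_) x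
      rw [hΨh]
      show Ψ (z (i + 1)) ^ (-1 : ℤ) = Ψ (cj (τ * tr 1) (z i))
      rw [cj_τtr_z, zpow_neg_one, map_inv]
    obtain ⟨e, hhe, he⟩ := split Ψ h (σA' hm) hconj
    have hσm : σA' hm ^ m = 1 := Subtype.ext (by
      rw [SubmonoidClass.coe_pow]; exact τtr_pow_m hm)
    have hσm1 : (z 0 * σA' hm) ^ (m + 1) = 1 := Subtype.ext (by
      rw [SubmonoidClass.coe_pow, Subgroup.coe_mul]; exact zτtr_pow)
    rw [hhe, ← hΨZ, ← mul_assoc, ← map_mul, (he _).symm.mul_pow, (he _).symm.mul_pow, ← map_pow,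
      ← map_pow, hσm, hσm1, map_one, one_mul, one_mul, pow_succ, left_eq_mul] at R7
    rw [R7, mul_one] at hhe
    refine ⟨Alt m, inferInstance, Ψ, surjective_of_mem Ψ hf fun i => ?_, le_rfl⟩
    fin_cases i
    · exact ⟨embHom hpm (aσ hp), by rw [← MonoidHom.comp_apply, hΨΦ, hΦa]; rfl⟩
    · exact ⟨z 0, hΨZ⟩
    · exact ⟨σA' hm, hhe.symm⟩

theorem alt_odd (hp : Odd p) (hp5 : 5 ≤ p) (hpm : p ≤ m) (hlo : m < 2 * p) (hm : Odd m) :
    Seven (Alt m) := by
  obtain ⟨r, b, W, hre, hr1, hcov, hb, hbz, hW⟩ := exists_setup hp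
  set w := wσ hp with hwdef
  set L := m - p + 1 with hL
  set g : Fin 3 → Alt m := ![embHom hpm (aσ hp), z 0, σA hm] with hg
  have hgen : Subgroup.closure (Set.range ![g 1, g 2]) = ⊤ :=
    closure_z_σ (σA hm) fun i => Or.inl (cj_tr_z i)
  refine seven_of (presentedBy_of_card g
    [(FreeGroup.of 0 ^ p, FreeGroup.of 1 ^ 3),
      (sub2 (W b) * FreeGroup.of 0 * (sub2 (W b))⁻¹, FreeGroup.of 0 ^ r),
      (sub2 (W b) * FreeGroup.of 1 * (sub2 (W b))⁻¹, (FreeGroup.of 1)⁻¹),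
      ((FreeGroup.of 1 * (FreeGroup.of 0 * FreeGroup.of 1 * (FreeGroup.of 0)⁻¹)) ^ 2, 1),
      (FreeGroup.of 1 * ((FreeGroup.of 0)⁻¹ * FreeGroup.of 2) * (FreeGroup.of 1)⁻¹,
        ((FreeGroup.of 0)⁻¹ * FreeGroup.of 2) ^ (L + 1)),
      (sub2 (W w) * ((FreeGroup.of 0)⁻¹ * FreeGroup.of 2),
        ((FreeGroup.of 0)⁻¹ * FreeGroup.of 2) * sub2 (W w)),
      (FreeGroup.of 2 ^ m, (FreeGroup.of 1 * FreeGroup.of 2) ^ (m + 2))] le_rfl ?_
    (closure_three hgen) ?_) hgen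
  · have hgW : ∀ x, FreeGroup.lift ![g 0, g 1] (W x) = embHom hpm x :=
      lift_W hW _ rfl (embHom_z_zero hpm)
    simp only [List.forall_mem_cons, List.not_mem_nil, IsEmpty.forall_iff, implies_true, and_true,
      map_mul, map_inv, map_pow, map_one, FreeGroup.lift_apply_of, lift_sub2, hgW]
    have e1 : embHom hpm (aσ hp) * z 0 * (embHom hpm (aσ hp))⁻¹ = z 1 := by
      rw [← embHom_z_zero hpm, ← map_inv, ← map_mul, ← map_mul, aσ_conj, zero_add, embHom_z_one]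
    refine ⟨?_, ?_, ?_, ?_, ?_, ?_, ?_⟩
    · show embHom hpm (aσ hp) ^ p = z 0 ^ 3
      rw [← map_pow, aσ_pow, map_one, z_cube]
    · show embHom hpm b * embHom hpm (aσ hp) * (embHom hpm b)⁻¹ = embHom hpm (aσ hp) ^ r
      rw [← map_inv, ← map_mul, ← map_mul, ← map_pow, hb]
    · show embHom hpm b * z 0 * (embHom hpm b)⁻¹ = (z 0)⁻¹
      rw [← embHom_z_zero hpm, ← map_inv, ← map_mul, ← map_mul, hbz, map_inv]
    · show (z 0 * (embHom hpm (aσ hp) * z 0 * (embHom hpm (aσ hp))⁻¹)) ^ 2 = 1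
      rw [e1, ← embHom_z_zero hpm, ← embHom_z_one hpm, ← map_mul, ← map_pow, z_pair zero_ne_one,
        map_one]
    · show z 0 * vσ hpm hp hm * (z 0)⁻¹ = vσ hpm hp hm ^ (L + 1)
      have h := vσ_z hpm hp hm (i := 0) (by simp)
      rw [embHom_z_zero, mul_inv_eq_iff_eq_mul] at h
      rw [pow_succ, hL, vσ_pow, one_mul, ← h, mul_inv_cancel_right]
    · exact vσ_comm_w hpm hp hm
    · show σA hm ^ m = (z 0 * σA hm) ^ (m + 2)
      refine Subtype.ext ?_
      rw [SubmonoidClass.coe_pow, SubmonoidClass.coe_pow, Subgroup.coe_mul]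
      show tr (1 : ZMod m) ^ m = (((z (0 : ZMod m) : Alt m) : Perm (Pts m)) * tr 1) ^ (m + 2)
      rw [tr_pow_m, long_pow]
  · intro Γ _ f hE hf
    simp only [List.forall_mem_cons, List.not_mem_nil, IsEmpty.forall_iff, implies_true, and_true,
      map_mul, map_inv, map_pow, map_one, FreeGroup.lift_apply_of, lift_sub2] at hE
    obtain ⟨R1, R2, R3, R4, R5, R6, R7⟩ := hE
    set A := f 0
    set Z := f 1
    set h := f 2
    obtain ⟨Φ, hΦa, hΦz, hΦW⟩ := prime_four hp hW hre hr1 hcov hb R1 R2 R3 R4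
    rw [hΦW] at R6
    set V := A⁻¹ * h with hV
    set s := L + 1 with hs
    have hwV : Φ w * V * (Φ w)⁻¹ = V := mul_inv_eq_iff_eq_mul.2 R6
    have ne : ∀ k : ℕ, k + 1 < p → (k : ZMod p) ≠ -1 := fun k hk e => by
      have : ((k + 1 : ℕ) : ZMod p) = 0 := by push_cast; rw [e]; ring
      have := Nat.le_of_dvd (by omega) ((ZMod.natCast_eq_zero_iff _ _).1 this)
      omega
    have ne' : ∀ k : ℕ, k + 2 < p → (k : ZMod p) ≠ -2 := fun k hk e => by
      have : ((k + 2 : ℕ) : ZMod p) = 0 := by push_cast; rw [e]; ring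
      have := Nat.le_of_dvd (by omega) ((ZMod.natCast_eq_zero_iff _ _).1 this)
      omega
    have move : ∀ q : Γ, q * V * q⁻¹ = V ^ s →
        (Φ w * q * (Φ w)⁻¹) * V * (Φ w * q * (Φ w)⁻¹)⁻¹ = V ^ s := fun q hq => by
      have hinv : (Φ w)⁻¹ * V * Φ w = V := by
        conv_rhs => rw [show V = (Φ w)⁻¹ * (Φ w * V * (Φ w)⁻¹) * Φ w by group]
        rw [hwV]
      rw [show Φ w * q * (Φ w)⁻¹ * V * (Φ w * q * (Φ w)⁻¹)⁻¹
        = Φ w * (q * ((Φ w)⁻¹ * V * Φ w) * q⁻¹) * (Φ w)⁻¹ by group, hinv, hq, ← conj_pow, hwV]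
    have hZ0 : Φ (z 0) * V * (Φ (z 0))⁻¹ = V ^ s := hΦz.symm ▸ R5
    have hw0 : Φ w * Φ (z 0) * (Φ w)⁻¹ = (Φ (z 1))⁻¹ := by
      rw [← map_inv, ← map_mul, ← map_mul, hwdef, wσ_conj hp (by simpa using ne 0 (by omega))
        (by simpa using ne' 0 (by omega)), zero_add, map_inv]
    have hw1 : Φ w * (Φ (z 1))⁻¹ * (Φ w)⁻¹ = Φ (z 2) := by
      rw [← map_inv, ← map_inv, ← map_mul, ← map_mul, hwdef, ← conj_inv,
        wσ_conj hp (by simpa using ne 1 (by omega)) (by simpa using ne' 1 (by omega)), inv_inv,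
        one_add_one_eq_two]
    have hZ1 := move _ hZ0
    rw [hw0] at hZ1
    have hZ2 := move _ hZ1
    rw [hw1] at hZ2
    have pw : ∀ {q : Γ}, q * V * q⁻¹ = V ^ s → ∀ k : ℕ, q * V ^ k * q⁻¹ = V ^ (s * k) :=
      fun {q} hq k => by rw [← conj_pow, hq, ← pow_mul]
    have h3 : V ^ (s * (s * s)) = V := by
      have e : Φ (z 0) ^ 3 = 1 := by rw [← map_pow, z_cube, map_one]
      rw [← pw hZ0, ← pw hZ0, ← hZ0]
      rw [show Φ (z 0) * (Φ (z 0) * (Φ (z 0) * V * (Φ (z 0))⁻¹) * (Φ (z 0))⁻¹) * (Φ (z 0))⁻¹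
        = Φ (z 0) ^ 3 * V * (Φ (z 0) ^ 3)⁻¹ by rw [pow_three]; group, e]
      group
    have h4 : V ^ (s * (s * (s * s))) = V := by
      have e : (Φ (z 0) * Φ (z 2)) ^ 2 = 1 := by
        rw [← map_mul, ← map_pow, z_pair (two_ne_zero' hp).symm, map_one]
      rw [← pw hZ0, ← pw hZ2, ← pw hZ0, ← hZ2]
      rw [show Φ (z 0) * (Φ (z 2) * (Φ (z 0) * (Φ (z 2) * V * (Φ (z 2))⁻¹) * (Φ (z 0))⁻¹)
          * (Φ (z 2))⁻¹) * (Φ (z 0))⁻¹
        = (Φ (z 0) * Φ (z 2)) ^ 2 * V * ((Φ (z 0) * Φ (z 2)) ^ 2)⁻¹ by rw [pow_two]; group, e]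
      group
    have hVs : V ^ s = V := by
      have e : V ^ (s * (s * (s * s))) = V ^ s := by
        rw [mul_comm s (s * (s * s)), pow_mul, h3]
      rw [← e, h4]
    have hVL : V ^ L = 1 := by
      rw [hs, pow_succ] at hVs
      exact mul_eq_right.1 hVs
    have hVZ : Z * V * Z⁻¹ = V := by
      rw [R5, hVs]
    have hhV : h = A * V := by rw [hV, mul_inv_cancel_left]
    have h0 : h * Φ (z 0) * h⁻¹ = Φ (z 1) ^ (1 : ℤ) := by
      rw [hhV, show A * V * Φ (z 0) * (A * V)⁻¹ = A * (V * Φ (z 0) * V⁻¹) * A⁻¹ by group,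
        hΦz, ← mul_inv_eq_iff_eq_mul.1 hVZ, mul_inv_cancel_right, zpow_one, ← hΦa, ← hΦz,
        ← map_inv, ← map_mul, ← map_mul, aσ_conj, zero_add]
    have hh := window_step Φ (h := h) (G := Φ w) (G' := Φ (aσ hp * w * (aσ hp)⁻¹)) (ε := 1)
      (δ := -1) (Or.inr rfl) h0 (by
        rw [hhV, show A * V * Φ w * (A * V)⁻¹ = A * (V * Φ w * V⁻¹) * A⁻¹ by group, ← R6,
          mul_inv_cancel_right, map_mul, map_mul, map_inv, hΦa])
      (fun i h1 h2 => by
        rw [← map_inv, ← map_mul, ← map_mul, wσ_conj hp h1 h2, map_inv, zpow_neg_one])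
      (fun i h1 h2 => by
        rw [← map_inv, ← map_mul, ← map_mul, hwdef, wσ'_conj hp h1 h2, map_inv, zpow_neg_one])
    have hd : Commute (h ^ m) (Φ (z 0)) := by
      have e1 : Commute (h ^ m) h := Commute.pow_self h m
      have e2 : Commute (h ^ m) (Z * h) := R7 ▸ Commute.pow_self _ _
      rw [hΦz, ← mul_inv_cancel_right Z h]
      exact e2.mul_right e1.inv_right
    obtain ⟨Ψ, hΨΦ, hΨh⟩ := period_hom hpm hlo Φ h (Or.inl rfl) (one_pow m) hh hd
    have hΨZ : Ψ (z 0) = Z := by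
      rw [← hΦz, ← hΨΦ, MonoidHom.comp_apply, embHom_z_zero]
    have hΨA : Ψ (embHom hpm (aσ hp)) = A := by rw [← MonoidHom.comp_apply, hΨΦ, hΦa]
    have hconj : ∀ x, h * Ψ x * h⁻¹ = Ψ (σA hm * x * (σA hm)⁻¹) := fun x => by
      rw [← cj_coe]
      refine conj_ext Ψ h (cj _) (fun i => ?_) x
      rw [hΨh]
      show Ψ (z (i + 1)) ^ (1 : ℤ) = Ψ (cj (tr 1) (z i))
      rw [cj_tr_z, zpow_one]
    obtain ⟨e, hhe, he⟩ := split Ψ h (σA hm) hconj
    have hσm : σA hm ^ m = 1 := Subtype.ext (by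
      rw [SubmonoidClass.coe_pow]; exact tr_pow_m _)
    have hσm2 : (z 0 * σA hm) ^ (m + 2) = 1 := Subtype.ext (by
      rw [SubmonoidClass.coe_pow, Subgroup.coe_mul]; exact long_pow)
    rw [hhe, ← hΨZ, ← mul_assoc, ← map_mul, (he _).symm.mul_pow, (he _).symm.mul_pow, ← map_pow,
      ← map_pow, hσm, hσm2, map_one, one_mul, one_mul, pow_add, left_eq_mul] at R7
    have hVe : V = Ψ (vσ hpm hp hm) * e := by
      rw [hV, hhe, ← hΨA, vσ, map_mul, map_inv, mul_assoc]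
    rw [hVe, (he _).symm.mul_pow, ← map_pow, hL, vσ_pow, map_one, one_mul, ← hL] at hVL
    have hLodd : L % 2 = 1 := by
      rw [Nat.odd_iff] at hm hp
      omega
    rw [show L = 2 * (L / 2) + 1 by omega, pow_succ, pow_mul, R7, one_pow, one_mul] at hVL
    rw [hVL, mul_one] at hhe
    refine ⟨Alt m, inferInstance, Ψ, surjective_of_mem Ψ hf fun i => ?_, le_rfl⟩
    fin_cases i
    · exact ⟨_, hΨA⟩
    · exact ⟨z 0, hΨZ⟩
    · exact ⟨σA hm, hhe.symm⟩

theorem alt_five_four : BoundedOn (Alt 3) (Fin 2) 4 := by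
  have hp : Odd 3 := by decide
  have : Fact (Nat.Prime 3) := ⟨Nat.prime_three⟩
  obtain ⟨r, b, W, hre, hr1, hcov, hb, hbz, hW⟩ := exists_setup hp
  refine (presentedBy_of_card ![aσ hp, z (0 : ZMod 3)]
    [(FreeGroup.of 0 ^ 3, FreeGroup.of 1 ^ 3),
      (W b * FreeGroup.of 0 * (W b)⁻¹, FreeGroup.of 0 ^ r),
      (W b * FreeGroup.of 1 * (W b)⁻¹, (FreeGroup.of 1)⁻¹),
      ((FreeGroup.of 1 * (FreeGroup.of 0 * FreeGroup.of 1 * (FreeGroup.of 0)⁻¹)) ^ 2, 1)]
    le_rfl ?_ (closure_aσ_z hp) ?_).boundedOn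
  · simp only [List.forall_mem_cons, List.not_mem_nil, IsEmpty.forall_iff, implies_true, and_true,
      map_mul, map_inv, map_pow, map_one, FreeGroup.lift_apply_of, hW]
    refine ⟨?_, hb, hbz, ?_⟩
    · show aσ hp ^ 3 = z (0 : ZMod 3) ^ 3
      rw [aσ_pow hp, z_cube]
    · show (z (0 : ZMod 3) * (aσ hp * z 0 * (aσ hp)⁻¹)) ^ 2 = 1
      rw [aσ_conj, z_pair (by simp)]
  · intro Γ _ f hE hf
    have ef : f = ![f 0, f 1] := funext fun i => by fin_cases i <;> rfl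
    simp only [List.forall_mem_cons, List.not_mem_nil, IsEmpty.forall_iff, implies_true, and_true,
      map_mul, map_inv, map_pow, map_one, FreeGroup.lift_apply_of] at hE
    obtain ⟨R1, R2, R3, R4⟩ := hE
    rw [ef] at R2 R3
    obtain ⟨Φ, hΦa, hΦz, -⟩ := prime_four hp hW hre hr1 hcov hb R1 R2 R3 R4
    refine ⟨Alt 3, inferInstance, Φ, surjective_of_mem Φ hf fun i => ?_, le_rfl⟩
    fin_cases i
    · exact ⟨_, hΦa⟩
    · exact ⟨_, hΦz⟩


theorem alt_five : Seven (Alt 3) :=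
  ⟨((alt_five_four.pad 1).reindex finSumFinEquiv).mono (by norm_num), alt_five_four.mono (by norm_num)⟩

end CfsgLib.Presentations.AltSeven
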