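import Mathlib
import Cfsg.Agent.Lib.Presentations.AltSeven.CaseA

/-!
Seven relations on three generators, or on two, for the symmetric groups.
-/

set_option autoImplicit false
set_option linter.unusedSectionVars false

namespace CfsgLib.Presentations.AltSeven

open Equiv Equiv.Perm
open Carmichael

variable {m : ℕ} [NeZero m] {p : ℕ} [Fact p.Prime]

theorem alt_le_of_shift (K : Subgroup (Perm (Pts m))) (h0 : ((z (0 : ZMod m) : Alt m) : Perm (Pts m)) ∈ K)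
    (hσ : tr (1 : ZMod m) ∈ K) : Alt m ≤ K := by
  have h := top_of_shift (K.comap (Alt m).subtype) h0 (tr 1) (fun x hx => by
    rw [Subgroup.mem_comap] at hx ⊢
    rw [Subgroup.coe_subtype, cj_val]
    exact mul_mem (mul_mem hσ hx) (inv_mem hσ)) fun i => Or.inl (cj_tr_z i)
  intro x hx
  have : (⟨x, hx⟩ : Alt m) ∈ K.comap (Alt m).subtype := h ▸ Subgroup.mem_top _
  exact this

theorem closure_z_tr (hm : Even m) :
    Subgroup.closure (Set.range ![((z (0 : ZMod m) : Alt m) : Perm (Pts m)), tr 1]) = ⊤ := by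
  have h1 : tr (1 : ZMod m) ∈ Subgroup.closure
      (Set.range ![((z (0 : ZMod m) : Alt m) : Perm (Pts m)), tr 1]) := Subgroup.subset_closure ⟨1, rfl⟩
  exact top_of_odd _ (alt_le_of_shift _ (Subgroup.subset_closure ⟨0, rfl⟩) h1) h1 (sign_tr_even hm)

theorem card_two_cosets {Γ : Type*} [Group Γ] (Ψ : Alt m →* Γ) :
    Nat.card (Bool × Ψ.range) ≤ Nat.card (Perm (Pts m)) := by
  rw [Nat.card_prod, Nat.card_eq_fintype_card, Fintype.card_bool, ← card_alt_two]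
  exact Nat.mul_le_mul_left _ (Nat.card_le_card_of_surjective _ Ψ.rangeRestrict_surjective)

theorem τ_comm_of_fix (x : Perm (Pts m)) (h0 : x (Sum.inl 0) = Sum.inl 0)
    (h1 : x (Sum.inl 1) = Sum.inl 1) : Commute (τ : Perm (Pts m)) x := by
  have h : x * τ * x⁻¹ = τ := by rw [τ, ← swap_apply_apply, h0, h1]
  exact (mul_inv_eq_iff_eq_mul.1 h).symm

theorem cj_emb_τ (hp : Odd p) (hpm : p ≤ m) (x : Alt p) :
    cj (tr (1 : ZMod m)) (embHom hpm x) = embHom hpm (cj (tr 1) x) →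
      tr (1 : ZMod m) * (τ * (embHom hpm x : Perm (Pts m))) * (tr (1 : ZMod m))⁻¹
        = τ * (embHom hpm (aσ hp * x * (aσ hp)⁻¹) : Perm (Pts m)) := fun h => by
  rw [← cj_coe (aσ hp) x]
  show _ = τ * ((embHom hpm (cj (tr 1) x) : Alt m) : Perm (Pts m))
  rw [← h, cj_val, ← mul_assoc, show tr (1 : ZMod m) * τ = τ * tr 1 from (τ_comm_onR _).symm]
  group

theorem sym_even (hp : Odd p) (hpm : p ≤ m) (hlo : m < 2 * p) (hm : Even m) :
    Seven (Perm (Pts m)) := by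
  obtain ⟨r, b, W, hre, hr1, hcov, hb, hbz, hW⟩ := exists_setup hp
  set w := wσ hp with hwdef
  set w' := aσ hp * w * (aσ hp)⁻¹ with hw'def
  set ι : Alt p →* Perm (Pts m) := (Alt m).subtype.comp (embHom hpm) with hι
  have hιz : ι (z 0) = ((z (0 : ZMod m) : Alt m) : Perm (Pts m)) := by
    rw [hι, MonoidHom.comp_apply, embHom_z_zero]; rfl
  set g : Fin 3 → Perm (Pts m) := ![ι (aσ hp), ((z (0 : ZMod m) : Alt m) : Perm (Pts m)), tr 1] with hg
  have hgen : Subgroup.closure (Set.range ![g 1, g 2]) = ⊤ := closure_z_tr hm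
  refine seven_of (presentedBy_of_card g
    [(FreeGroup.of 0 ^ p, FreeGroup.of 1 ^ 3),
      (sub2 (W b) * FreeGroup.of 0 * (sub2 (W b))⁻¹, FreeGroup.of 0 ^ r),
      (sub2 (W b) * FreeGroup.of 1 * (sub2 (W b))⁻¹, (FreeGroup.of 1)⁻¹),
      ((FreeGroup.of 1 * (FreeGroup.of 0 * FreeGroup.of 1 * (FreeGroup.of 0)⁻¹)) ^ 2, 1),
      (FreeGroup.of 2 * FreeGroup.of 1 * (FreeGroup.of 2)⁻¹,
        FreeGroup.of 0 * FreeGroup.of 1 * (FreeGroup.of 0)⁻¹),
      (FreeGroup.of 2 * sub2 (W w) * (FreeGroup.of 2)⁻¹, sub2 (W w')),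
      (FreeGroup.of 2 ^ m, (FreeGroup.of 1 * FreeGroup.of 2) ^ (m + 2))] le_rfl ?_
    (closure_three hgen) ?_) hgen
  · have hgW : ∀ x, FreeGroup.lift ![g 0, g 1] (W x) = ι x := lift_W hW _ rfl hιz
    simp only [List.forall_mem_cons, List.not_mem_nil, IsEmpty.forall_iff, implies_true, and_true,
      map_mul, map_inv, map_pow, map_one, FreeGroup.lift_apply_of, lift_sub2, hgW]
    have e1 : ι (aσ hp) * ((z (0 : ZMod m) : Alt m) : Perm (Pts m)) * (ι (aσ hp))⁻¹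
        = ι (z 1) := by
      rw [← hιz, ← map_inv, ← map_mul, ← map_mul, aσ_conj, zero_add]
    refine ⟨?_, ?_, ?_, ?_, ?_, ?_, ?_⟩
    · show ι (aσ hp) ^ p = ((z (0 : ZMod m) : Alt m) : Perm (Pts m)) ^ 3
      rw [← map_pow, aσ_pow, map_one, ← SubmonoidClass.coe_pow, z_cube]; rfl
    · show ι b * ι (aσ hp) * (ι b)⁻¹ = ι (aσ hp) ^ r
      rw [← map_inv, ← map_mul, ← map_mul, ← map_pow, hb]
    · show ι b * ((z (0 : ZMod m) : Alt m) : Perm (Pts m)) * (ι b)⁻¹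
        = (((z (0 : ZMod m) : Alt m) : Perm (Pts m)))⁻¹
      rw [← hιz, ← map_inv, ← map_mul, ← map_mul, hbz, map_inv]
    · show (((z (0 : ZMod m) : Alt m) : Perm (Pts m)) * (ι (aσ hp)
        * ((z (0 : ZMod m) : Alt m) : Perm (Pts m)) * (ι (aσ hp))⁻¹)) ^ 2 = 1
      rw [e1, ← hιz, ← map_mul, ← map_pow, z_pair zero_ne_one, map_one]
    · show tr (1 : ZMod m) * ((z (0 : ZMod m) : Alt m) : Perm (Pts m)) * (tr 1)⁻¹
        = ι (aσ hp) * ((z (0 : ZMod m) : Alt m) : Perm (Pts m)) * (ι (aσ hp))⁻¹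
      rw [e1, ← cj_val, cj_tr_z, zero_add, hι, MonoidHom.comp_apply, embHom_z_one]; rfl
    · show tr (1 : ZMod m) * ι w * (tr 1)⁻¹ = ι w'
      show tr (1 : ZMod m) * ((embHom hpm w : Alt m) : Perm (Pts m)) * (tr 1)⁻¹ = _
      rw [← cj_val, hwdef, step_w hpm hp]; rfl
    · show tr (1 : ZMod m) ^ m = (((z (0 : ZMod m) : Alt m) : Perm (Pts m)) * tr 1) ^ (m + 2)
      rw [tr_pow_m, long_pow]
  · intro Γ _ f hE hf
    simp only [List.forall_mem_cons, List.not_mem_nil, IsEmpty.forall_iff, implies_true, and_true,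
      map_mul, map_inv, map_pow, map_one, FreeGroup.lift_apply_of, lift_sub2] at hE
    obtain ⟨R1, R2, R3, R4, R5, R6, R7⟩ := hE
    set A := f 0
    set Z := f 1
    set h := f 2
    obtain ⟨Φ, hΦa, hΦz, hΦW⟩ := prime_four hp hW hre hr1 hcov hb R1 R2 R3 R4
    rw [hΦW, hΦW] at R6
    have h0 : h * Φ (z 0) * h⁻¹ = Φ (z 1) ^ (1 : ℤ) := by
      rw [hΦz, R5, zpow_one, ← hΦa, ← hΦz, ← map_inv, ← map_mul, ← map_mul, aσ_conj, zero_add]
    have hh := window_step Φ (ε := 1) (δ := -1) (Or.inr rfl) h0 R6 (fun i h1 h2 => by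
        rw [← map_inv, ← map_mul, ← map_mul, wσ_conj hp h1 h2, map_inv, zpow_neg_one])
      (fun i h1 h2 => by
        rw [← map_inv, ← map_mul, ← map_mul, hw'def, hwdef, wσ'_conj hp h1 h2, map_inv, zpow_neg_one])
    have hd : Commute (h ^ m) (Φ (z 0)) := by
      have e1 : Commute (h ^ m) h := Commute.pow_self h m
      have e2 : Commute (h ^ m) (Z * h) := R7 ▸ Commute.pow_self _ _
      rw [hΦz, ← mul_inv_cancel_right Z h]
      exact e2.mul_right e1.inv_right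
    obtain ⟨Ψ, hΨΦ, hΨh⟩ := period_hom hpm hlo Φ h (Or.inl rfl) (one_pow m) hh hd
    have hΨZ : Ψ (z 0) = Z := by
      rw [← hΦz, ← hΨΦ, MonoidHom.comp_apply, embHom_z_zero]
    have hconj : ∀ x, h * Ψ x * h⁻¹ = Ψ (cj (tr 1) x) := fun x => by
      refine conj_ext Ψ h (cj _) (fun i => ?_) x
      rw [hΨh, cj_tr_z, zpow_one]
    let s2 : Alt m := ⟨tr 1 * tr 1, Equiv.Perm.mem_alternatingGroup.2 (by
      rw [map_mul, sign_tr_even hm]; rfl)⟩
    obtain ⟨e, hhe, he⟩ := split Ψ (h * h) s2 fun x => by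
      rw [show h * h * Ψ x * (h * h)⁻¹ = h * (h * Ψ x * h⁻¹) * h⁻¹ by group, hconj, hconj]
      exact congrArg Ψ (Subtype.ext (by simp only [cj_val, Subgroup.coe_mul, InvMemClass.coe_inv, s2]; group))
    obtain ⟨k, hk⟩ := hm.two_dvd
    have hs2 : s2 ^ k = 1 := Subtype.ext (by
      rw [SubmonoidClass.coe_pow]
      show (tr (1 : ZMod m) * tr 1) ^ k = 1
      rw [← pow_two, ← pow_mul, ← hk, tr_pow_m])
    have hu : (z 0 * z 1 * s2) ^ (k + 1) = 1 := Subtype.ext (by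
      rw [SubmonoidClass.coe_pow]
      show (((z (0 : ZMod m) : Alt m) : Perm (Pts m)) * ((z (1 : ZMod m) : Alt m) : Perm (Pts m))
        * (tr 1 * tr 1)) ^ (k + 1) = 1
      have e1 : ((z (1 : ZMod m) : Alt m) : Perm (Pts m))
          = tr 1 * ((z (0 : ZMod m) : Alt m) : Perm (Pts m)) * (tr 1)⁻¹ := by
        rw [← cj_val, cj_tr_z, zero_add]
      rw [e1, show ((z (0 : ZMod m) : Alt m) : Perm (Pts m))
          * (tr 1 * ((z (0 : ZMod m) : Alt m) : Perm (Pts m)) * (tr 1)⁻¹) * (tr 1 * tr 1)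
        = (((z (0 : ZMod m) : Alt m) : Perm (Pts m)) * tr 1) ^ 2 by rw [pow_two]; group,
        ← pow_mul, show 2 * (k + 1) = m + 2 by omega, long_pow])
    have hZh : (Z * h) * (Z * h) = Ψ (z 0 * z 1 * s2) * e := by
      rw [show Z * h * (Z * h) = Z * (h * Z * h⁻¹) * (h * h) by group, ← hΨZ, hconj, cj_tr_z,
        zero_add, hhe, map_mul, map_mul, mul_assoc]
      rw [← mul_assoc, ← mul_assoc, mul_assoc]
    rw [show h ^ m = (h * h) ^ k by rw [← pow_two, ← pow_mul, ← hk],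
      show (Z * h) ^ (m + 2) = (Z * h * (Z * h)) ^ (k + 1) by
        rw [← pow_two, ← pow_mul]; congr 1; omega,
      hhe, hZh, (he _).symm.mul_pow, (he _).symm.mul_pow, ← map_pow, ← map_pow, hs2, hu, map_one,
      one_mul, one_mul, pow_succ, left_eq_mul] at R7
    rw [R7, mul_one] at hhe
    have : Finite Ψ.range := Finite.of_surjective _ Ψ.rangeRestrict_surjective
    refine ⟨Bool × Ψ.range, inferInstance, _, surjective_two_cosets Ψ.range h ⟨s2, hhe.symm⟩ ?_ hf ?_,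
      card_two_cosets Ψ⟩
    · rintro _ ⟨x, rfl⟩
      exact ⟨_, (hconj x).symm⟩
    · rintro _ ⟨i, rfl⟩
      fin_cases i
      · exact Or.inl ⟨embHom hpm (aσ hp), by rw [← MonoidHom.comp_apply, hΨΦ, hΦa]; rfl⟩
      · exact Or.inl ⟨z 0, hΨZ⟩
      · exact Or.inr ⟨s2, hhe.symm⟩

theorem closure_τ_long :
    Subgroup.closure ({((z (0 : ZMod m) : Alt m) : Perm (Pts m)) * tr 1, τ} : Set (Perm (Pts m))) = ⊤ := by
  obtain ⟨-, -, -, -, hc⟩ := long_orbit (m := m)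
  set q := ((z (0 : ZMod m) : Alt m) : Perm (Pts m)) * tr 1 with hq
  have hmov : ∀ x, q x ≠ x := by
    intro x hx
    have hall : ∀ y, q y = y := by
      intro y
      obtain ⟨i, hi⟩ := long_cov x
      obtain ⟨j, hj⟩ := long_cov y
      rw [← hq] at hi hj
      have h0 : q (Sum.inr 0) = Sum.inr 0 := (q ^ i).injective (by
        rw [← Perm.mul_apply, ← pow_succ, pow_succ', Perm.mul_apply, hi, hx])
      rw [← hj, Equiv.Perm.pow_apply_eq_self_of_apply_eq_self h0, h0]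
    rw [hall (Sum.inl 0)] at hc
    exact c_ne hc
  have hsupp : q.support = Finset.univ := Finset.eq_univ_of_forall fun x => mem_support.2 (hmov x)
  have hcyc : q.IsCycle := by
    refine ⟨Sum.inr 0, hmov _, fun y _ => ?_⟩
    obtain ⟨j, hj⟩ := long_cov y
    exact ⟨j, by rw [zpow_natCast]; exact hj⟩
  have := closure_cycle_adjacent_swap hcyc hsupp (Sum.inl 0)
  rwa [hc] at this

theorem sym_odd (hp : Odd p) (hpm : p ≤ m) (hlo : m < 2 * p) (hm : Odd m) :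
    Seven (Perm (Pts m)) := by
  obtain ⟨r, b, W, hre, hr1, hcov, hb, hbz, hW⟩ := exists_setup hp
  set w := wσ hp with hwdef
  set w' := aσ hp * w * (aσ hp)⁻¹ with hw'def
  set ι : Alt p →* Perm (Pts m) := (Alt m).subtype.comp (embHom hpm) with hι
  have hιz : ι (z 0) = ((z (0 : ZMod m) : Alt m) : Perm (Pts m)) := by
    rw [hι, MonoidHom.comp_apply, embHom_z_zero]; rfl
  have hιτ : Commute (τ : Perm (Pts m)) (ι (aσ hp)) := by
    refine τ_comm_of_fix _ ?_ ?_ <;>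
      (show (embHom hpm (aσ hp) : Perm (Pts m)) _ = _; rw [← emb_inl hpm, embHom_apply]; rfl)
  obtain ⟨j, hj⟩ := hp
  have hp' : Odd p := ⟨j, hj⟩
  have ha : aσ hp' ^ p = 1 := aσ_pow hp'
  set a₀ : Perm (Pts m) := τ * ι (aσ hp') ^ (j + 1) with ha₀
  have hτ2 : (τ : Perm (Pts m)) ^ 2 = 1 := by rw [pow_two, τ_mul_τ]
  have ha2 : a₀ ^ 2 = ι (aσ hp') := by
    rw [ha₀, (hιτ.pow_right _).mul_pow, hτ2, one_mul, ← pow_mul, ← map_pow,
      show (j + 1) * 2 = p + 1 by omega, pow_succ, ha, one_mul]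
  have hap : a₀ ^ p = τ := by
    rw [ha₀, (hιτ.pow_right _).mul_pow, ← pow_mul, ← map_pow, mul_comm (j + 1), pow_mul, ha, one_pow,
      map_one, mul_one, hj, pow_succ, pow_mul, hτ2, one_pow, one_mul]
  set g : Fin 3 → Perm (Pts m) := ![a₀, ((z (0 : ZMod m) : Alt m) : Perm (Pts m)), tr 1] with hg
  have hgen2 : Subgroup.closure (Set.range ![g 0, g 1 * g 2]) = ⊤ := by
    rw [eq_top_iff, ← closure_τ_long (m := m), Subgroup.closure_le]
    rintro _ (rfl | rfl)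
    · exact Subgroup.subset_closure ⟨1, rfl⟩
    · rw [← hap]
      exact pow_mem (Subgroup.subset_closure (Set.mem_range.2 ⟨0, rfl⟩)) p
  have hgen : Subgroup.closure (Set.range g) = ⊤ := by
    rw [eq_top_iff, ← hgen2, Subgroup.closure_le]
    rintro _ ⟨i, rfl⟩
    fin_cases i
    · exact Subgroup.subset_closure ⟨0, rfl⟩
    · exact mul_mem (Subgroup.subset_closure ⟨1, rfl⟩) (Subgroup.subset_closure ⟨2, rfl⟩)
  suffices H : PresentedBy g 7 by
    obtain ⟨Wd, hWd⟩ := exists_words _ hgen2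
    refine ⟨H.boundedOn, H.subst ![FreeGroup.of 0, FreeGroup.of 1 * FreeGroup.of 2]
      ![FreeGroup.of 0, Wd (g 1), (Wd (g 1))⁻¹ * FreeGroup.of 1]
      (fun i => by fin_cases i <;> simp) fun i => ?_⟩
    have e : (fun i => FreeGroup.lift g
        ((![FreeGroup.of 0, FreeGroup.of 1 * FreeGroup.of 2] : Fin 2 → FreeGroup (Fin 3)) i))
        = ![g 0, g 1 * g 2] := funext fun i => by fin_cases i <;> simp
    rw [e]
    fin_cases i <;> simp [hWd]
  refine presentedBy_of_card g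
    [((FreeGroup.of 0 ^ 2) ^ p, FreeGroup.of 1 ^ 3),
      (sub2' (W b) * FreeGroup.of 0 ^ 2 * (sub2' (W b))⁻¹, (FreeGroup.of 0 ^ 2) ^ r),
      (sub2' (W b) * FreeGroup.of 0 ^ p * FreeGroup.of 1 * (sub2' (W b) * FreeGroup.of 0 ^ p)⁻¹,
        FreeGroup.of 1),
      ((FreeGroup.of 1 * (FreeGroup.of 0 ^ 2 * FreeGroup.of 1 * (FreeGroup.of 0 ^ 2)⁻¹)) ^ 2, 1),
      (FreeGroup.of 2 * FreeGroup.of 1 * (FreeGroup.of 2)⁻¹,
        FreeGroup.of 0 ^ 2 * FreeGroup.of 1 * (FreeGroup.of 0 ^ 2)⁻¹),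
      (FreeGroup.of 2 * (FreeGroup.of 0 ^ p * sub2' (W w)) * (FreeGroup.of 2)⁻¹,
        FreeGroup.of 0 ^ p * sub2' (W w')),
      (FreeGroup.of 2 ^ m, (FreeGroup.of 0 ^ p * FreeGroup.of 1 * FreeGroup.of 2) ^ (m + 1))]
    le_rfl ?_ hgen ?_
  · have hgW : ∀ x, FreeGroup.lift ![g 0 ^ 2, g 1] (W x) = ι x := lift_W hW _ ha2.symm hιz
    simp only [List.forall_mem_cons, List.not_mem_nil, IsEmpty.forall_iff, implies_true, and_true,
      map_mul, map_inv, map_pow, map_one, FreeGroup.lift_apply_of, lift_sub2', hgW]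
    have g0 : g 0 = a₀ := rfl
    have g1 : g 1 = ι (z 0) := hιz.symm
    have g2 : g 2 = tr 1 := rfl
    have e1 : ι (aσ hp') * ι (z 0) * (ι (aσ hp'))⁻¹ = ι (z 1) := by
      rw [← map_inv, ← map_mul, ← map_mul, aσ_conj, zero_add]
    rw [g0, g1, g2, ha2, hap]
    refine ⟨?_, ?_, ?_, ?_, ?_, ?_, ?_⟩
    · rw [← map_pow, ← map_pow, ha, z_cube]
    · rw [← map_inv, ← map_mul, ← map_mul, ← map_pow, hb]
    · have hτz : τ * ι (z 0) * τ⁻¹ = ι (z 0)⁻¹ := by
        rw [map_inv, hιz, ← cj_val, cj_τ_z]; rfl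
      rw [show ι b * τ * ι (z 0) * (ι b * τ)⁻¹ = ι b * (τ * ι (z 0) * τ⁻¹) * (ι b)⁻¹ by group, hτz,
        ← map_inv, ← map_mul, ← map_mul, ← conj_inv, hbz, inv_inv]
    · rw [e1, ← map_mul, ← map_pow, z_pair zero_ne_one, map_one]
    · rw [e1, hιz, ← cj_val, cj_tr_z, zero_add, hι, MonoidHom.comp_apply, embHom_z_one]; rfl
    · exact cj_emb_τ hp' hpm w (by
        rw [hwdef, step_w hpm hp', ← cj_coe (aσ hp')]; rfl)
    · rw [tr_pow_m, hιz, mul_assoc τ, τztr_pow]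
  · intro Γ _ f hE hf
    simp only [List.forall_mem_cons, List.not_mem_nil, IsEmpty.forall_iff, implies_true, and_true,
      map_mul, map_inv, map_pow, map_one, FreeGroup.lift_apply_of, lift_sub2'] at hE
    obtain ⟨R1, R2, R3, R4, R5, R6, R7⟩ := hE
    set A₀ := f 0
    set Z := f 1
    set h := f 2
    obtain ⟨Φ, hΦa, hΦz, hΦW, hTT, hTΦ⟩ := prime_four' hp' hW hre hr1 hcov hb hbz R1 R2 R3 R4
    rw [hΦW, hΦW] at R6
    set T := A₀ ^ p with hT
    have h0 : h * Φ (z 0) * h⁻¹ = Φ (z 1) ^ (1 : ℤ) := by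
      rw [hΦz, R5, zpow_one, ← hΦa, ← hΦz, ← map_inv, ← map_mul, ← map_mul, aσ_conj, zero_add]
    have hTw : ∀ (u : Alt p) (i k : ZMod p), u * z i * u⁻¹ = (z k)⁻¹ →
        T * Φ u * Φ (z i) * (T * Φ u)⁻¹ = Φ (z k) ^ (1 : ℤ) := fun u i k he => by
      rw [show T * Φ u * Φ (z i) * (T * Φ u)⁻¹ = T * (Φ u * Φ (z i) * (Φ u)⁻¹) * T⁻¹ by group,
        ← map_inv, ← map_mul, ← map_mul, he, hTΦ, map_inv, cj_τ_z, inv_inv, zpow_one]
    have hh := window_step Φ (h := h) (G := T * Φ w) (G' := T * Φ w') (ε := 1) (δ := 1) (Or.inl rfl)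
      h0 R6 (fun i h1 h2 => hTw _ _ _ (wσ_conj hp' h1 h2))
      (fun i h1 h2 => hTw _ _ _ (by rw [hw'def, hwdef]; exact wσ'_conj hp' h1 h2))
    have hhT : h * T * h⁻¹ = T := by
      have e := eq_of_fix ((MulAut.conj h).toMonoidHom.comp Φ) (Φ.comp (cj (tr 1)).toMonoidHom) (-1)
        (fun i hi => by
          simp only [MonoidHom.comp_apply, MulEquiv.coe_toMonoidHom, MulAut.conj_apply, hh i hi,
            zpow_one, cj_tr_z]) w (by rw [hwdef]; exact wσ_fix hp')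
      simp only [MonoidHom.comp_apply, MulEquiv.coe_toMonoidHom, MulAut.conj_apply] at e
      have e' : h * Φ w * h⁻¹ = Φ w' := by
        rw [e, hw'def, ← cj_coe (aσ hp') w]; rfl
      have := R6
      rw [show h * (T * Φ w) * h⁻¹ = (h * T * h⁻¹) * (h * Φ w * h⁻¹) by group, e'] at this
      exact mul_right_cancel this
    have hhT' : Commute h T := mul_inv_eq_iff_eq_mul.1 hhT
    have hd : Commute (h ^ m) (Φ (z 0)) := by
      have e1 : Commute (h ^ m) h := Commute.pow_self h m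
      have e2 : Commute (h ^ m) (T * Z * h) := R7 ▸ Commute.pow_self _ _
      have e3 : Commute (h ^ m) T := hhT'.pow_left m
      rw [hΦz, show Z = T⁻¹ * (T * Z * h) * h⁻¹ by group]
      exact (e3.inv_right.mul_right e2).mul_right e1.inv_right
    obtain ⟨Ψ, hΨΦ, hΨh⟩ := period_hom hpm hlo Φ h (Or.inl rfl) (one_pow m) hh hd
    have hΨZ : Ψ (z 0) = Z := by
      rw [← hΦz, ← hΨΦ, MonoidHom.comp_apply, embHom_z_zero]
    have hTn : ∀ n : ℕ, T * Ψ (z (n : ZMod m)) * T⁻¹ = (Ψ (z (n : ZMod m)))⁻¹ := by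
      intro n
      induction n with
      | zero => rw [Nat.cast_zero, hΨZ, ← hΦz, hTΦ, cj_τ_z, map_inv]
      | succ n ih =>
        have e := hΨh (n : ZMod m)
        rw [zpow_one] at e
        rw [Nat.cast_succ, ← e, show T * (h * Ψ (z (n : ZMod m)) * h⁻¹) * T⁻¹
          = (T * h) * Ψ (z (n : ZMod m)) * (T * h)⁻¹ by group, ← hhT'.eq,
          show h * T * Ψ (z (n : ZMod m)) * (h * T)⁻¹ = h * (T * Ψ (z (n : ZMod m)) * T⁻¹) * h⁻¹ by group,
          ih, conj_inv]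
    have hTΨ : ∀ x, T * Ψ x * T⁻¹ = Ψ (cj τ x) := fun x => by
      refine conj_ext Ψ T (cj τ) (fun i => ?_) x
      rw [← ZMod.natCast_zmod_val i, hTn, cj_τ_z, map_inv]
    have hconj : ∀ x, h * Ψ x * h⁻¹ = Ψ (σA hm * x * (σA hm)⁻¹) := fun x => by
      rw [← cj_coe]
      refine conj_ext Ψ h (cj _) (fun i => ?_) x
      rw [hΨh, zpow_one]
      exact congrArg Ψ (cj_tr_z i).symm
    obtain ⟨e, hhe, he⟩ := split Ψ h (σA hm) hconj
    have hTe : Commute T e := by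
      have hs : cj τ (σA hm) = σA hm := Subtype.ext (by
        rw [cj_val]
        show τ * tr (1 : ZMod m) * τ⁻¹ = tr 1
        rw [show (τ : Perm (Pts m)) * tr 1 = tr 1 * τ from τ_comm_onR _, mul_inv_cancel_right])
      have e1 : Commute T (Ψ (σA hm)) := mul_inv_eq_iff_eq_mul.1 (by rw [hTΨ, hs])
      have e2 : e = (Ψ (σA hm))⁻¹ * h := by rw [hhe, inv_mul_cancel_left]
      rw [e2]
      exact e1.inv_right.mul_right hhT'.symm
    obtain ⟨k, hk⟩ : ∃ k, m + 1 = 2 * k := by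
      rw [Nat.odd_iff] at hm
      exact ⟨(m + 1) / 2, by omega⟩
    set u : Alt m := z 0 * σA hm with hu
    have huk : (cj τ u * u) ^ k = 1 := Subtype.ext (by
      rw [SubmonoidClass.coe_pow, Subgroup.coe_mul, cj_val]
      show (τ * (((z (0 : ZMod m) : Alt m) : Perm (Pts m)) * tr 1) * τ⁻¹ *
        (((z (0 : ZMod m) : Alt m) : Perm (Pts m)) * tr 1)) ^ k = 1
      rw [inv_eq_of_mul_eq_one_right τ_mul_τ, show τ * (((z (0 : ZMod m) : Alt m) : Perm (Pts m)) * tr 1) * τ *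
        (((z (0 : ZMod m) : Alt m) : Perm (Pts m)) * tr 1)
        = (τ * (((z (0 : ZMod m) : Alt m) : Perm (Pts m)) * tr 1)) ^ 2 by rw [pow_two, ← mul_assoc (τ * _) τ],
        ← pow_mul, ← hk, τztr_pow])
    have hTu : (T * Ψ u) ^ (m + 1) = 1 := by
      rw [hk, pow_mul, pow_two, show T * Ψ u * (T * Ψ u) = (T * Ψ u * T⁻¹) * (T * T) * Ψ u by group,
        hTT, mul_one, hTΨ, ← map_mul, ← map_pow, huk, map_one]
    have hσm : σA hm ^ m = 1 := Subtype.ext (by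
      rw [SubmonoidClass.coe_pow]; exact tr_pow_m _)
    rw [show T * Z * h = T * Ψ u * e by rw [hu, map_mul, hhe, hΨZ]; group,
      (hTe.mul_left (he _).symm).mul_pow, hTu, one_mul, hhe, (he _).symm.mul_pow, ← map_pow, hσm,
      map_one, one_mul, pow_succ, left_eq_mul] at R7
    rw [R7, mul_one] at hhe
    have : Finite Ψ.range := Finite.of_surjective _ Ψ.rangeRestrict_surjective
    refine ⟨Bool × Ψ.range, inferInstance, _,
      surjective_two_cosets Ψ.range T (by rw [hTT]; exact one_mem _) ?_ hf ?_, card_two_cosets Ψ⟩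
    · rintro _ ⟨x, rfl⟩
      exact ⟨_, (hTΨ x).symm⟩
    · rintro _ ⟨i, rfl⟩
      fin_cases i
      · refine Or.inr ⟨embHom hpm (aσ hp' ^ (j + 1)), ?_⟩
        show Ψ _ = A₀ ^ p * A₀
        rw [← MonoidHom.comp_apply, hΨΦ, map_pow, hΦa, ← pow_mul, ← pow_succ]
        congr 1; omega
      · exact Or.inl ⟨z 0, hΨZ⟩
      · exact Or.inl ⟨σA hm, hhe.symm⟩

end CfsgLib.Presentations.AltSeven
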