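import Mathlib
import Cfsg.Agent.Lib.Presentations.AltSeven.CaseS
import Cfsg.Agent.Lib.Presentations.SpTen

/-!
Seven relations for all alternating and symmetric groups of degree at least five, and the smaller
degrees.
-/

set_option autoImplicit false
set_option linter.unusedSectionVars false

namespace CfsgLib.Presentations.AltSeven

open Equiv Equiv.Perm
open Carmichael

theorem Seven.map {G H : Type} [Group G] [Group H] (h : Seven G) (e : G ≃* H) : Seven H :=
  ⟨h.1.map e, h.2.map e⟩

theorem seven_sym_alt (n : ℕ) (hn : 5 ≤ n) :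
    Seven (Perm (Fin n)) ∧ Seven (alternatingGroup (Fin n)) := by
  obtain ⟨m, rfl⟩ : ∃ m, n = m + 2 := ⟨n - 2, by omega⟩
  have : NeZero m := ⟨by omega⟩
  obtain ⟨p, hp, hodd, hpm, hlo, h5⟩ := exists_window m (by omega)
  have : Fact p.Prime := ⟨hp⟩
  let e : Pts m ≃ Fin (m + 2) := Fintype.equivFinOfCardEq (by
    rw [Fintype.card_sum, Fintype.card_fin, ZMod.card, add_comm])
  rcases Nat.even_or_odd m with hm | hm
  · exact ⟨(sym_even hodd hpm hlo hm).map e.permCongrHom,
      (alt_even hodd hpm hlo hm).map (Equiv.altCongrHom e)⟩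
  · refine ⟨(sym_odd hodd hpm hlo hm).map e.permCongrHom, ?_⟩
    rcases eq_or_ne m 3 with rfl | h3
    · exact alt_five.map (Equiv.altCongrHom e)
    · refine (alt_odd hodd (h5 ?_ hm) hpm hlo hm).map (Equiv.altCongrHom e)
      rw [Nat.odd_iff] at hm
      omega

/-- A trivial group needs nothing. -/
theorem boundedOn_subsingleton {T : Type} [Group T] [Subsingleton T] : BoundedOn T (Fin 0) 0 := by
  refine ⟨Fin.elim0, [], le_rfl, by simp, Subsingleton.elim _ _, fun Γ _ f _ => ⟨1, fun i => i.elim0⟩⟩

/-- The symmetric group from the alternating group. -/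
theorem sym_of_alt {Ω : Type} [Fintype Ω] [DecidableEq Ω] {κ : Type} [Fintype κ] {k : ℕ}
    (h : BoundedOn (alternatingGroup Ω) κ k) {a b : Ω} (hab : a ≠ b) :
    BoundedOn (Perm Ω) (κ ⊕ Unit) (k + 1 + Fintype.card κ) := by
  classical
  have : Nontrivial Ω := ⟨⟨a, b, hab⟩⟩
  obtain ⟨ga, L, hL, h1, h2, h3⟩ := h
  obtain ⟨W, hW⟩ := exists_words ga h2
  set τ₀ : Perm Ω := swap a b with hτ
  have hττ : τ₀ * τ₀ = 1 := swap_mul_self _ _
  let cjτ : alternatingGroup Ω →* alternatingGroup Ω := (MulAut.conjNormal τ₀).toMonoidHom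
  let g : κ ⊕ Unit → Perm Ω := Sum.elim (fun i => (ga i : Perm Ω)) fun _ => τ₀
  let iw : FreeGroup κ →* FreeGroup (κ ⊕ Unit) := FreeGroup.map Sum.inl
  have hiw : ∀ {Γ : Type} [Group Γ] (f : κ ⊕ Unit → Γ) (w : FreeGroup κ),
      FreeGroup.lift f (iw w) = FreeGroup.lift (f ∘ Sum.inl) w := fun {Γ} _ f w =>
    DFunLike.congr_fun (FreeGroup.ext_hom ((FreeGroup.lift f).comp iw) (FreeGroup.lift (f ∘ Sum.inl))
      fun i => by simp [iw]) w
  have hg : ∀ w, FreeGroup.lift g (iw w) = (FreeGroup.lift ga w : Perm Ω) := fun w => by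
    rw [hiw, show g ∘ Sum.inl = (alternatingGroup Ω).subtype ∘ ga from rfl, ← lift_natural]
    rfl
  let E : List (FreeGroup (κ ⊕ Unit) × FreeGroup (κ ⊕ Unit)) :=
    L.map (fun r => (iw r, 1)) ++ (FreeGroup.of (Sum.inr ()) * FreeGroup.of (Sum.inr ()), 1) ::
      (Finset.univ : Finset κ).toList.map fun i =>
        (FreeGroup.of (Sum.inr ()) * FreeGroup.of (Sum.inl i) * (FreeGroup.of (Sum.inr ()))⁻¹,
          iw (W (cjτ (ga i))))
  refine (presentedBy_of_card g E ?_ ?_ ?_ ?_).boundedOn
  · simp only [E, List.length_append, List.length_map, List.length_cons, Finset.length_toList,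
      Finset.card_univ]
    omega
  · intro e he
    simp only [E, List.mem_append, List.mem_map, List.mem_cons, Finset.mem_toList] at he
    rcases he with ⟨r, hr, rfl⟩ | rfl | ⟨i, -, rfl⟩
    · rw [hg, h1 r hr, map_one]; rfl
    · simpa [g] using hττ
    · rw [hg, hW]
      simp [g, cjτ]
  · have hle : alternatingGroup Ω ≤ Subgroup.closure (Set.range g) := by
      intro x hx
      have e : ((alternatingGroup Ω).subtype) (FreeGroup.lift ga (W ⟨x, hx⟩)) = x := by rw [hW]; rfl
      rw [← e, Subgroup.coe_subtype, ← hg, ← FreeGroup.range_lift_eq_closure]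
      exact ⟨_, rfl⟩
    have ht : τ₀ ∈ Subgroup.closure (Set.range g) := Subgroup.subset_closure ⟨Sum.inr (), rfl⟩
    refine eq_top_iff.2 fun σ _ => ?_
    rcases Int.units_eq_one_or (sign σ) with e | e
    · exact hle e
    · have : σ * τ₀ ∈ alternatingGroup Ω := by
        rw [Equiv.Perm.mem_alternatingGroup, map_mul, e, hτ, sign_swap hab]; rfl
      exact (Subgroup.mul_mem_cancel_right _ ht).1 (hle this)
  · intro Γ _ f hE hf
    set t := f (Sum.inr ()) with ht
    obtain ⟨ψ, hψ⟩ := h3 Γ (f ∘ Sum.inl) fun r hr => by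
      have := hE (iw r, 1) (by simp only [E, List.mem_append, List.mem_map]; exact Or.inl ⟨r, hr, rfl⟩)
      rw [map_one, hiw] at this
      exact this
    have htt : t * t = 1 := by
      have := hE (FreeGroup.of (Sum.inr ()) * FreeGroup.of (Sum.inr ()), 1)
        (by simp only [E, List.mem_append, List.mem_cons, true_or, or_true])
      simpa [ht] using this
    have hconj : ∀ x, t * ψ x * t⁻¹ = ψ (cjτ x) := fun x =>
      DFunLike.congr_fun (MonoidHom.eq_of_eqOn_dense h2
        (f := (MulAut.conj t).toMonoidHom.comp ψ) (g := ψ.comp cjτ) (by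
          rintro _ ⟨i, rfl⟩
          have := hE (FreeGroup.of (Sum.inr ()) * FreeGroup.of (Sum.inl i) * (FreeGroup.of (Sum.inr ()))⁻¹,
            iw (W (cjτ (ga i)))) (by
              simp only [E, List.mem_append, List.mem_cons, List.mem_map, Finset.mem_toList,
                Finset.mem_univ, true_and]
              exact Or.inr (Or.inr ⟨i, rfl⟩))
          rw [hiw, show f ∘ Sum.inl = ψ ∘ ga from funext fun i => (hψ i).symm, ← lift_natural, hW] at this
          simpa [hψ, ht] using this)) x
    have : Finite ψ.range := Finite.of_surjective _ ψ.rangeRestrict_surjective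
    refine ⟨Bool × ψ.range, inferInstance, _,
      surjective_two_cosets ψ.range t (by rw [htt]; exact one_mem _) ?_ hf ?_, ?_⟩
    · rintro _ ⟨x, rfl⟩
      exact ⟨_, (hconj x).symm⟩
    · rintro _ ⟨i | i, rfl⟩
      · exact Or.inl ⟨_, hψ i⟩
      · exact Or.inr (by rw [show f (Sum.inr i) = t from rfl, htt]; exact one_mem _)
    · rw [Nat.card_prod, ← two_mul_nat_card_alternatingGroup (α := Ω), Nat.card_eq_fintype_card,
        Fintype.card_bool]
      exact Nat.mul_le_mul_left _ (Nat.card_le_card_of_surjective _ ψ.rangeRestrict_surjective)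

/-- Two generators and at most eight relations, for every degree. -/
theorem two_generators_eight (n : ℕ) :
    (∃ rels : Finset (FreeGroup (Fin 2)), rels.card ≤ 8 ∧
      Nonempty (PresentedGroup (↑rels : Set (FreeGroup (Fin 2))) ≃* Perm (Fin n))) ∧
    ∃ rels : Finset (FreeGroup (Fin 2)), rels.card ≤ 8 ∧
      Nonempty (PresentedGroup (↑rels : Set (FreeGroup (Fin 2))) ≃* alternatingGroup (Fin n)) := by
  rcases Nat.lt_or_ge n 5 with hn | hn
  swap
  · obtain ⟨hS, hA⟩ := seven_sym_alt n hn
    exact ⟨(hS.2.mono (by norm_num)).presented, (hA.2.mono (by norm_num)).presented⟩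
  rcases Nat.lt_or_ge n 2 with h2 | h2
  · have : Subsingleton (Fin n) := Fin.subsingleton_iff_le_one.2 (by omega)
    have : Subsingleton (alternatingGroup (Fin n)) := inferInstance
    exact ⟨boundedOn_subsingleton.exact (by simp) (by simp),
      boundedOn_subsingleton.exact (by simp) (by simp)⟩
  obtain ⟨m, rfl⟩ : ∃ m, n = m + 2 := ⟨n - 2, by omega⟩
  have hA := bounded_small_on m (by omega)
  have hcard := card_idx m
  have hS := sym_of_alt hA (a := 0) (b := 1) (by simp)
  refine ⟨?_, hA.exact (by omega) (by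
    have : m ≤ 2 := (by omega)
    interval_cases m <;> simp [hcard])⟩
  rcases Nat.lt_or_ge m 2 with h | h
  · exact hS.exact (by simp [hcard]; omega) (by interval_cases m <;> simp [hcard])
  · obtain rfl : m = 2 := by omega
    obtain ⟨a, b, hab⟩ := SpPres.sym_two_generated (Fin 4) (by simp)
    obtain ⟨rels, hr, e, -⟩ := hS.prescribed ![a, b] (by
      rw [show Set.range ![a, b] = {a, b} by simp [Set.pair_comm]]; exact hab)
    exact ⟨rels, hr.trans (by simp [hcard]), ⟨e⟩⟩

/-- A prescribed pair of generators costs two more relations. -/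
theorem seven_pair {G : Type} [Group G] (h : Seven G) (a b : G)
    (hab : Subgroup.closure ({a, b} : Set G) = ⊤) :
    ∃ rels : Finset (FreeGroup (Fin 2)), rels.card ≤ 9 ∧
      ∃ e : PresentedGroup (↑rels : Set (FreeGroup (Fin 2))) ≃* G,
        e (PresentedGroup.of 0) = a ∧ e (PresentedGroup.of 1) = b := by
  obtain ⟨rels, hr, e, he⟩ := h.2.prescribed ![a, b] (by
    rw [show Set.range ![a, b] = {a, b} by simp [Set.pair_comm]]; exact hab)
  exact ⟨rels, hr, e, he 0, he 1⟩

end CfsgLib.Presentations.AltSeven
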